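import Cfsg.Agent.H612.Ore.SpCover
import Cfsg.Agent.H6.ORE.LargeOre
import Cfsg.Agent.FourTwo.Lift
import Cfsg.Agent.FourTwo.CentC
import Cfsg.Agent.F42.AllSys_m3
import Cfsg.Agent.S1054
import Cfsg.Agent.Characters.Counting
import Cfsg.Agent.Characters.GaloisBasic
import Cfsg.Agent.H134.Sq.Base_m3
import Cfsg.Agent.H65.F4T.Mult
import Cfsg.Agent.H6.QO.Frame
import Cfsg.Agent.H326.F4C.Cover_mg
import Cfsg.Agent.H824.Fs.ExPar
import Cfsg.Agent.OddHalf.D9.FFour.MultTwo
import Cfsg.Agent.FastGrp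
import Cfsg.Agent.Prune
set_option linter.all false

section
prune_inst 0x7ffcbdfbeff83ddfffff7e3ffeffdffbf5e87ffff6dff9fbffedf1bf2fdf6b6febe5abad6fef50ffbff6609410f87bc3fb7eeeffeb6fdc7ffffdfff45fffffdfffffbd2d51f7bc341ffe2ffff3f17fae7f3fffffffffffffffffffffffffffffffffffffffff

-- part: H374/QS/FF/ParC_mg
section
set_option linter.all false
open scoped Cfsg.Agent.FastGrp

-- part: H374/QS/FF/Code
section
/-!
# 2.F₄(2): elementary abelian 2-groups with coded actions (helper374)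

`el t n h`: the product of the `t i` (`i < n`) with bit `i` of `h` set.
* `EAb t n`: the `t i` (`i < n`) are commuting involutions (or 1); `el_xor`, `conj_el`, `conj_word`.
* `fp_of_codes` : `FP` from codes.
-/

set_option autoImplicit false

namespace Cfsg.Agent.H374.QS.FF

open Cfsg.Agent.H612.Ore

variable {G : Type*} [Group G]

/-- the product of the `t i` with bit `i` set -/
def el (t : ℕ → G) : ℕ → ℕ → G
  | 0, _ => 1
  | n + 1, h => el t n h * (if h.testBit n = true then t n else 1)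

/-- commuting elements of order at most two -/
structure EAb (t : ℕ → G) (n : ℕ) : Prop where
  sq : ∀ i, i < n → t i * t i = 1
  cm : ∀ i, i < n → ∀ j, j < n → t i * t j = t j * t i

variable {t : ℕ → G}

theorem el_zero (n : ℕ) : el t n 0 = 1 := by
  induction n with
  | zero => rfl
  | succ n ih => rw [el, ih, Nat.zero_testBit, if_neg (by decide), one_mul]

theorem el_mem {H : Subgroup G} {n : ℕ} (h : ∀ i, i < n → t i ∈ H) (v : ℕ) : el t n v ∈ H := by
  induction n with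
  | zero => exact one_mem _
  | succ n ih =>
    rw [el]
    refine mul_mem (ih fun i hi => h i (by omega)) ?_
    split_ifs
    · exact h n (by omega)
    · exact one_mem _

theorem EAb.comm_el {n : ℕ} (E : EAb t n) {k i : ℕ} (hk : k ≤ n) (hi : i < n) (v : ℕ) :
    t i * el t k v = el t k v * t i := by
  induction k with
  | zero => rw [el, mul_one, one_mul]
  | succ k ih =>
    rw [el, ← mul_assoc, ih (by omega), mul_assoc, mul_assoc]
    congr 1
    split_ifs
    · exact E.cm i hi k (by omega)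
    · rw [mul_one, one_mul]

theorem EAb.el_xor {n : ℕ} (E : EAb t n) {k : ℕ} (hk : k ≤ n) (u v : ℕ) :
    el t k (u ^^^ v) = el t k u * el t k v := by
  induction k with
  | zero => rw [el, el, el, one_mul]
  | succ k ih =>
    have hk' : k < n := by omega
    have hc := E.comm_el (k := k) (by omega) hk' v
    rw [el, el, el, ih (by omega), Nat.testBit_xor]
    cases u.testBit k <;> cases v.testBit k
    · simp
    · simp [mul_assoc]
    · simp only [Bool.xor_false, if_true, Bool.false_eq_true, if_false, mul_one]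
      rw [mul_assoc, ← hc, ← mul_assoc]
    · simp only [Bool.xor_self, Bool.false_eq_true, if_false, if_true, mul_one]
      calc el t k u * el t k v = el t k u * (t k * t k) * el t k v := by rw [E.sq k hk', mul_one]
        _ = el t k u * t k * (t k * el t k v) := by simp only [mul_assoc]
        _ = el t k u * t k * (el t k v * t k) := by rw [hc]

theorem EAb.el_sq {n : ℕ} (E : EAb t n) (u : ℕ) : el t n u * el t n u = 1 := by
  rw [← E.el_xor le_rfl, Nat.xor_self, el_zero]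

theorem EAb.el_inv {n : ℕ} (E : EAb t n) (u : ℕ) : (el t n u)⁻¹ = el t n u :=
  inv_eq_of_mul_eq_one_right (E.el_sq u)

theorem EAb.el_comm {n : ℕ} (E : EAb t n) (u v : ℕ) : el t n u * el t n v = el t n v * el t n u := by
  rw [← E.el_xor le_rfl, ← E.el_xor le_rfl, Nat.xor_comm]

theorem el_two_pow {n i : ℕ} (hi : i < n) : el t n (2 ^ i) = t i := by
  induction n with
  | zero => omega
  | succ n ih =>
    rw [el]
    by_cases h : i = n
    · subst h
      have h0 : ∀ k, k ≤ i → el t k (2 ^ i) = 1 := by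
        intro k
        induction k with
        | zero => intro _; rfl
        | succ k ihk =>
          intro hk
          rw [el, ihk (by omega), Nat.testBit_two_pow]
          have : ¬ i = k := by omega
          simp [this]
      rw [h0 i le_rfl, Nat.testBit_two_pow]
      simp
    · rw [ih (by omega), Nat.testBit_two_pow]
      simp [h]

theorem el_mod {n : ℕ} (v : ℕ) : el t n v = el t n (v % 2 ^ n) := by
  have key : ∀ k, k ≤ n → el t k v = el t k (v % 2 ^ n) := by
    intro k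
    induction k with
    | zero => intro _; rfl
    | succ k ih =>
      intro hk
      rw [el, el, ih (by omega), Nat.testBit_mod_two_pow]
      have : k < n := by omega
      simp [this]
  exact key n le_rfl

theorem map_el {G' : Type*} [Group G'] (f : G →* G') (n h : ℕ) : f (el t n h) = el (fun i => f (t i)) n h := by
  induction n with
  | zero => exact map_one f
  | succ n ih =>
    rw [el, el, map_mul, ih]
    split_ifs
    · rfl
    · rw [map_one]

/-- `g` acts with the matrix code `c` -/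
def ActsC (t : ℕ → G) (n : ℕ) (g : G) (c : ℕ) : Prop := ∀ i, i < n → g * t i * g⁻¹ = el t n (col n c i)

theorem conj_apk {n : ℕ} (E : EAb t n) {g : G} {c : ℕ} (h : ActsC t n g c) (v : ℕ) :
    ∀ k, k ≤ n → g * el t k v * g⁻¹ = el t n (apk n c v k) := by
  intro k
  induction k with
  | zero => intro _; rw [el, mul_one, mul_inv_cancel, apk, el_zero]
  | succ k ih =>
    intro hk
    have ih' := ih (by omega)
    rw [el, apk]
    have e : g * (el t k v * (if v.testBit k = true then t k else 1)) * g⁻¹ =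
        (g * el t k v * g⁻¹) * (g * (if v.testBit k = true then t k else 1) * g⁻¹) := by group
    rw [e, ih']
    cases v.testBit k
    · simp
    · rw [cond_true, if_pos rfl, h k (by omega), E.el_xor le_rfl]

theorem conj_el {n : ℕ} (E : EAb t n) {g : G} {c : ℕ} (h : ActsC t n g c) (v : ℕ) :
    g * el t n v * g⁻¹ = el t n (apc n c v) := conj_apk E h v n le_rfl

theorem ActsC.mul {n : ℕ} (E : EAb t n) {g g' : G} {c c' c'' : ℕ} (h : ActsC t n g c) (h' : ActsC t n g' c')
    (hc : ∀ i, i < n → apc n c (col n c' i) = col n c'' i) : ActsC t n (g * g') c'' := by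
  intro i hi
  have e : (g * g') * t i * (g * g')⁻¹ = g * (g' * t i * g'⁻¹) * g⁻¹ := by group
  rw [e, h' i hi, conj_el E h, hc i hi]

/-- the action of a word on codes -/
def wv (n : ℕ) (gs : List ℕ) (w : List ℕ) (v : ℕ) : ℕ := w.foldr (fun j v => apc n (gs.getD j 0) v) v

theorem conj_wd {n : ℕ} (E : EAb t n) {T : ℕ → G} {gs : List ℕ}
    (w : List ℕ) (h : ∀ j ∈ w, ActsC t n (T j) (gs.getD j 0)) (v : ℕ) :
    wd T w * el t n v * (wd T w)⁻¹ = el t n (wv n gs w v) := by
  induction w with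
  | nil => rw [wd, one_mul, inv_one, mul_one]; rfl
  | cons j w ih =>
    have e : wd T (j :: w) * el t n v * (wd T (j :: w))⁻¹ = T j * (wd T w * el t n v * (wd T w)⁻¹) * (T j)⁻¹ := by
      rw [wd]; group
    rw [e, ih fun k hk => h k (List.mem_cons_of_mem _ hk), conj_el E (h j List.mem_cons_self)]
    rfl

/-- check of the code of a word -/
def isC (n : ℕ) (gs : List ℕ) (w : List ℕ) (c : ℕ) : Bool :=
  (List.range n).all fun i => wv n gs w (2 ^ i) == col n c i

theorem acts_of_isC {n : ℕ} (E : EAb t n) {T : ℕ → G} {gs : List ℕ} {w : List ℕ}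
    (h : ∀ j ∈ w, ActsC t n (T j) (gs.getD j 0)) {c : ℕ} (hc : isC n gs w c = true) : ActsC t n (wd T w) c := by
  intro i hi
  have h1 := eq_of_beq (List.all_eq_true.1 hc i (List.mem_range.2 hi))
  rw [← h1, ← conj_wd E w h, el_two_pow hi]

/-- check of the solutions of `w = u + b u + v + a v` -/
def fpB (n : ℕ) (a b u v : ℕ) : Bool :=
  (List.range (2 ^ n)).all fun w =>
    w == (apc n u w ^^^ apc n b (apc n u w)) ^^^ (apc n v w ^^^ apc n a (apc n v w))

theorem fp_codes {n : ℕ} (E : EAb t n) {a b : G} {ca cb u v : ℕ} (ha : ActsC t n a ca) (hb : ActsC t n b cb)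
    (hc : fpB n ca cb u v = true) {w : ℕ} (hw : w < 2 ^ n) :
    el t n w = el t n (apc n u w) * (b * el t n (apc n u w) * b⁻¹)⁻¹ *
      (el t n (apc n v w) * (a * el t n (apc n v w) * a⁻¹)⁻¹) := by
  have h1 := eq_of_beq (List.all_eq_true.1 hc w (List.mem_range.2 hw))
  rw [conj_el E ha, conj_el E hb, E.el_inv, E.el_inv, ← E.el_xor le_rfl, ← E.el_xor le_rfl, ← E.el_xor le_rfl, ← h1]

end Cfsg.Agent.H374.QS.FF
end

-- part: H374/QS/FF/Cert
section
/-!
# 2.F₄(2): the certificate for `2^{1+8}.Sp₆(2)` and the module `2^7` (helper374)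

`B r` (`15 ≤ r < 33`) : the root elements of the Levi factor of `P_s`, `A = ⟨B 41, …, B 47⟩`, `Q / Z` with the basis
`B 33, …, B 40`.  For the thirty class representatives `rws` of `Sp₆(2)` (`H612.Ore.SpCover`) pairs of words `aw`, `bw` in
the seven transvections with `rws = [aw, bw]` and without fixed functionals on `A` and on `Q / Z` (`fp7`, `fp8`).
-/

set_option autoImplicit false

namespace Cfsg.Agent.H374.QS.FF

open Cfsg.Agent.H612.Ore
open Cfsg.Agent.SporRec.TwoSp6.Sp (V S om tr act act_one act_mul act_ext act_add act_om act_tr enc enc_xor om_enc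
  fN exists_enc)

/-- action of `B r` (`15 ≤ r < 33`) on `A` (7 columns of 7 bits) -/
def cAs : List ℕ := [291409252909313, 300171254628609, 282716775973121, 322161218748673, 282922397532417,
  282582021374209, 352947544342785, 283128555995393, 423316288504193, 284777823404291, 282587390083841,
  282595980017925, 282578800541953, 282578800153857, 282578800148809, 282578800675073, 282578801197329,
  282578800156961]

/-- action of `B r` (`15 ≤ r < 33`) on `Q / Z` (8 columns of 8 bits) -/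
def cVs : List ℕ := [9385818351642870273, 9529653164253643265, 9817882445188694529, 10395471292144026113,
  11549516506207683073, 13853116520290583297, 9245925288251228673, 9250428887845175809, 9241439280843457025,
  9241421826029781505, 9241492057334482433, 9241421963468212737, 9277450486147187203, 9241562427152404997,
  9241422238350320137, 9241421690737787409, 9241421688598692385, 9241421688590336577]

/-- the transvections whose product is the action of `B r` (`15 ≤ r < 33`) on `A / ⟨t⟩` -/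
def cls : List (List ℕ) := [[1, 2, 3], [1, 4, 5], [2, 4, 6], [1], [2], [4], [1, 32, 33], [2, 32, 34], [1, 16, 17],
  [2, 8, 10], [4, 16, 20], [4, 8, 12], [32], [16], [8], [16, 32, 48], [8, 32, 40], [8, 16, 24]]

/-- words of the seven transvections in the root elements -/
def tws : List (List ℕ) := [[18], [29], [15, 18, 19], [17, 28, 17], [27], [20], [28]]

/-- action of the seven transvections on `A` -/
def g7s : List ℕ := [322161218748673, 282578800148809, 331335268892929, 282590611314433, 282578800541953,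
  282582021374209, 282578800153857]

/-- action of the seven transvections on `Q / Z` -/
def g8s : List ℕ := [10395471292144026113, 9241422238350320137, 12703566109761405441, 13853257258852684549,
  9277450486147187203, 13853116520290583297, 9241562427152404997]

/-- first words -/
def aw : List (List ℕ) := [[6, 5, 4, 2, 1, 0], [1, 2, 6, 5, 2, 3, 4, 0, 1, 2, 3, 0, 1, 2, 0, 1], [6, 5, 2, 3, 4, 1,
  2, 3, 0, 1, 2, 0, 1], [4, 3, 2, 6, 5, 1, 2, 3, 1, 2, 0, 1, 0], [4, 3, 1, 2, 6, 4, 5, 4, 1, 2, 3, 2, 0, 1], [4, 2,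
  3, 1, 2, 6, 5, 4, 3, 2, 0, 1], [5, 4, 3, 1, 2, 6, 5, 4, 1, 2, 3, 2, 0, 1], [2, 3, 4, 1, 2, 3, 0, 1, 2, 6, 1, 2,
  3, 4, 5, 0, 1, 2, 3, 4, 3, 2, 1, 0, 2, 3, 4, 5, 6, 2, 0, 1, 2, 3, 4, 3, 2, 1, 0, 5, 4, 3, 2, 1, 6, 2, 1, 0, 3, 2,
  1, 4, 3, 2], [4, 5, 2, 3, 4, 1, 2, 3, 0, 1, 2, 6, 0], [3, 2, 6, 5, 4, 3, 0, 1], [2, 6, 3, 4, 5, 1, 2, 3, 0, 1, 2,
  0], [6, 4, 5, 2, 3, 4, 1, 2, 3, 0, 1, 2, 0], [4, 3, 1, 2, 6, 5, 1, 2, 3, 1, 2, 1, 0], [3, 4, 2, 3, 1, 2, 6, 5, 4,
  3, 2, 1, 0], [3, 0, 1, 2, 6, 5, 4, 1, 2, 3], [4, 2, 3, 1, 2, 6, 5, 4, 3, 2, 0, 1], [2, 6, 5, 3, 4, 2, 3, 0, 1,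
  2], [3, 0, 1, 2, 6, 4, 5, 1, 2, 3], [2, 6, 5, 3, 4, 2, 3, 0, 1, 2], [3, 1, 2, 6, 4, 5, 3, 0, 1, 0], [3, 2, 6, 4,
  5, 3, 0, 1], [3, 2, 6, 5, 4, 1, 2, 3, 0, 1], [3, 2, 6, 4, 5, 1, 2, 3, 0, 1], [4, 3, 2, 6, 5, 1, 2, 3, 0, 1, 2, 0,
  1], [4, 3, 2, 6, 4, 5, 1, 2, 3, 4, 1, 0], [3, 0, 1, 2, 6, 4, 5, 3], [4, 3, 2, 6, 5, 3, 4, 3, 1, 0], [3, 1, 2, 6,
  4, 5, 3, 0], [6, 3, 4, 5, 2, 3, 1, 0], [6, 5, 4, 2, 1, 0]]

/-- second words -/
def bw : List (List ℕ) := [[], [6, 4, 2, 3, 1, 2, 6, 4, 5, 2, 3, 4, 1, 2, 3, 0, 1, 2, 6, 4, 3, 0, 1, 2, 0], [3, 0,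
  1, 0], [0], [2, 6, 2, 3, 4, 1, 2, 3, 0, 1, 2, 6, 5, 1, 2, 3, 4, 3, 1, 2, 1, 0], [2, 6, 2, 3, 4, 1, 2, 3, 0, 1, 2,
  6, 3, 4, 5, 4, 2, 3, 2, 1, 0], [4, 3, 2, 6, 2, 3, 4, 1, 2, 3, 0, 1, 2, 6, 5, 3, 4, 2, 3, 2, 0], [2, 3, 4, 1, 2,
  3, 0, 1, 2, 6, 1, 2, 3, 4, 5, 0, 1, 2, 3, 4, 3, 2, 1, 0, 1, 2, 6, 0, 0, 1, 2, 3, 4, 3, 2, 1, 0, 5, 4, 3, 2, 1, 6,
  2, 1, 0, 3, 2, 1, 4, 3, 2], [5, 3, 0, 1, 0], [4, 0, 1, 0], [3, 0, 1, 0], [3, 0, 1, 0], [1, 2, 3, 1, 2, 0, 1], [6,
  3], [2, 6, 2, 3, 4, 1, 2, 3, 0, 1, 2, 6, 4, 5, 0, 1, 2, 3, 4, 3, 0, 1, 2, 1], [2, 6, 5, 2, 3, 4, 1, 2, 3, 0, 1,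
  2, 6, 3, 4, 5, 4, 2, 3, 2, 1, 0], [5, 4, 3, 2, 6, 3, 4, 1, 2, 3, 0, 1, 2, 6, 4, 5, 0, 1, 2, 3, 4, 1, 2, 3, 0, 1,
  0], [2, 6, 2, 3, 4, 1, 2, 3, 0, 1, 2, 6, 4, 5, 1, 2, 3, 4, 3, 0, 1, 2, 1], [5, 4, 3, 2, 6, 4, 5, 2, 3, 4, 1, 2,
  3, 0, 1, 2, 6, 3, 4, 5, 3, 4, 3, 2, 0, 1, 0], [5, 4, 3, 2, 6, 5, 4, 1, 2, 3, 0, 1, 2, 6, 3, 4, 5, 1, 2, 3, 4, 2,
  3, 0, 1, 2, 0], [3, 4, 0, 1, 0], [3, 4, 5, 1, 2, 3, 0, 1, 2, 1], [3, 4, 1, 2, 3, 0, 1, 2, 1], [5, 3, 0, 1, 0],
  [2, 6], [2, 3, 1, 2, 6, 2, 3, 4, 1, 2, 3, 0, 1, 2, 6, 2, 3, 4, 5, 2, 3, 4, 3, 0, 1, 2, 1], [4, 3, 1, 2, 6, 5, 2,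
  3, 4, 1, 2, 3, 0, 1, 2, 6, 5, 4, 1, 2, 3, 0, 1, 2, 0, 1], [3, 4, 2], [3, 0, 1, 2, 0, 1, 0], [0, 1, 2, 6, 5, 2, 3,
  4, 1, 2, 3, 0, 1, 2, 6, 5, 1, 2, 3, 4, 1, 2, 3, 2, 1]]

/-- first words on `A` -/
def a7s : List ℕ := [4508658963818, 506823875877788, 212154221853468, 416844846938755, 164785027613403,
  202464775883108, 164638998725335, 124253691127205, 212703977926716, 484026457459047, 138353799260423,
  211329587738428, 414920701583005, 483939751872770, 143266436550375, 202464775883108, 127173999316676,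
  143277173770471, 127173999316676, 323802702286639, 484041489649511, 310080550415008, 310095582604448,
  190139293186691, 521195373407454, 209146134400832, 5464021256566, 486530423197513, 6018072053958, 4508658963818]

/-- second words on `A` -/
def b7s : List ℕ := [282578800148737, 479518621948700, 5513681114944, 322161218748673, 495733195634465,
  206846985027489, 146124201374595, 24809628871908, 5510459889472, 5501870342464, 5513681114944, 5513681114944,
  486155686590116, 282590611309313, 394877701350558, 206846985025953, 456402301839442, 394869916284702,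
  208800657201286, 269446402792849, 5513681835840, 72083259010231, 72072521591991, 5510459889472, 331335268896897,
  545971428138529, 83447474151729, 453255432509185, 283896281372463, 128616034996320]

/-- solutions on `A` -/
def u7s : List ℕ := [0, 504719035394708, 4501398405504, 2216337342464, 237546530687393, 453033394200881,
  81592008605844, 314496567493318, 9346119682307, 17729633469061, 68725817729, 8899442770307, 149610957897859,
  68753066000, 166173190742611, 219946263530386, 105046612220419, 455753983968037, 433856358924965,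
  502683252046368, 30889688006918, 96401988584181, 435519222252163, 4948341604352, 8874006417440, 79213136797970,
  11600950036759, 168302668251398, 155134223499651, 434354485834114]

/-- solutions on `A` -/
def v7s : List ℕ := [0, 2216337350656, 238088865497910, 223756831244435, 2113537, 8796634087682, 4432408346624,
  8797441508227, 149542989303842, 294807096649923, 72126031840016, 11030362702594, 79959448175378, 80264952815681,
  4398048624769, 270532609, 8796097249536, 17730707194368, 68723703810, 70918533810176, 361229069623378,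
  4398317060097, 70957188268048, 83576675369107, 167341602173159, 270532609, 2113536, 79754092912723,
  97346016886800, 1108169199648]

/-- first words on `Q / Z` -/
def a8s : List ℕ := [216761291722909856, 16419386643240971260, 16147199242757466175, 9062285942290395455,
  16002785567855894101, 5189739138769520825, 9948821493880982097, 1495431492700226971, 16147234977054179516,
  971426274087809467, 15714513181894707835, 6919464616762779771, 13108709652065403924, 5191990698596966402,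
  4959818119120681671, 5189739138769520825, 15342379113128248557, 15316888271665377670, 15342379113128248557,
  8027347189501059862, 8896542741839793142, 605770711591584980, 7521239805116568720, 17949014117448888639,
  9865339253996158219, 12675088028681685216, 222367701541466553, 15246442238736522742, 1375289687134314886,
  216761291722909856]

/-- second words on `Q / Z` -/
def b8s : List ℕ := [9241421688590303745, 951235061342857471, 1442299496108173384, 10395471292144026113,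
  6840651540752471763, 380934619572295107, 14111819685594860593, 743387995054833081, 1154072143613452360,
  1158553752983052328, 1442299496108173384, 1442299496108173384, 11909826166069958980, 13853186889034761985,
  9062564924659457526, 380940118086734210, 886488336505702954, 14158733651764330208, 13552425769938411782,
  15547391862189242277, 1445677196118108384, 9372186956655947126, 10524950157358177142, 1154072143613452360,
  12703689256070352900, 3716780957908390676, 12149340650133226081, 8966872500961415958, 7496427050543682309,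
  228016982571663488]

/-- solutions on `Q / Z` -/
def u8s : List ℕ := [0, 4762854854014147595, 432909699944681494, 14431970274830196744, 4708022049335872025,
  9005213000668513647, 736116673951966241, 8992821456070581559, 1515202910936564995, 72902092284887571,
  1373880538147131408, 1591462885661479442, 7064327257091543813, 11565264401486320146, 3393469062407925029,
  4088382836973180463, 2163735696911176757, 12541547647427413540, 12723956272618347038, 580151929575053080,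
  5819928921924448543, 1257933889441432644, 10287360110422656010, 77974139491652354, 12703689256070352900,
  7793638873393216261, 198936589861456399, 391084368053339179, 7496426603862399813, 4639834817524803137]

/-- solutions on `Q / Z` -/
def v8s : List ℕ := [0, 5188217414357092360, 5765263184520942100, 2317667157309128704, 1302105510039916560, 0,
  566261406827265, 0, 2383531344317920261, 2379626978260492835, 1876334253739478024, 2884595281658646548, 0,
  2305846350698250496, 1224980266893771024, 0, 76579954082516993, 73188991519949824, 0, 144398874960724227, 0,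
  144681445154095107, 72059793078091776, 2020163620314875144, 0, 0, 565149011279872, 360292385499906052, 0,
  144679250476269570]

/-- the code of the image in `A / ⟨B 44⟩` -/
def p6 (v : ℕ) : ℕ := v % 8 + (bif v.testBit 6 then 8 else 0) + (bif v.testBit 5 then 16 else 0) +
  (bif v.testBit 4 then 32 else 0)

/-- a transvection on codes -/
def st (c v : ℕ) : ℕ := bif B6 v c then v ^^^ c else v

/-- the code of the action of `B r` on `A` -/
def cAr (r : ℕ) : ℕ := if r < 33 then cAs.getD (r - 15) 0 else 282578800148737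

theorem p6_lt : ∀ v < 128, p6 v < 64 := by decide +kernel

theorem p6_zero : ∀ v < 128, p6 v = 0 → v = 0 ∨ v = 8 := by decide +kernel

theorem p6_two_pow : ∀ v < 128, ∀ k < 7, k ≠ 3 → p6 v = p6 (2 ^ k) → v = 2 ^ k ∨ v = 2 ^ k ^^^ 8 := by decide +kernel

private noncomputable def apf (n c v : ℕ) : ℕ :=
  Nat.rec 0 (fun k r => Nat.xor r (Nat.mul (Nat.land 1 (Nat.shiftRight v k))
    (Nat.mod (Nat.shiftRight c (Nat.mul n k)) (Nat.pow 2 n)))) n

private theorem apc_eq : apc = apf := rfl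

private theorem apk_xor' (n c u v : ℕ) : ∀ k, apk n c (u ^^^ v) k = apk n c u k ^^^ apk n c v k
  | 0 => (Nat.xor_self 0).symm
  | k + 1 => by
    rw [apk_at_succ, apk_at_succ, apk_at_succ, Nat.testBit_xor, apk_xor' n c u v k]
    generalize apk n c u k = a, apk n c v k = b, col n c k = d
    cases u.testBit k <;> cases v.testBit k
    · rfl
    · exact Nat.xor_assoc _ _ _
    · show a ^^^ b ^^^ d = a ^^^ d ^^^ b
      rw [Nat.xor_assoc, Nat.xor_comm b, ← Nat.xor_assoc]
    · show a ^^^ b = a ^^^ d ^^^ (b ^^^ d)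
      rw [Nat.xor_comm b d, ← Nat.xor_assoc, Nat.xor_assoc a, Nat.xor_self, Nat.xor_zero]

private theorem lin_ext {F : ℕ → ℕ} (hF : ∀ u v, F (u ^^^ v) = F u ^^^ F v) {n : ℕ} (h : ∀ i < n, 2 ^ i = F (2 ^ i))
    {w : ℕ} (hw : w < 2 ^ n) : w = F w := by
  have h0 : F 0 = 0 := by
    have := hF 0 0
    rwa [Nat.xor_self, Nat.xor_self] at this
  have key : ∀ k ≤ n, w % 2 ^ k = F (w % 2 ^ k) := by
    intro k
    induction k with
    | zero => intro _; rw [pow_zero, Nat.mod_one, h0]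
    | succ k ih =>
      intro hk
      have e : w % 2 ^ (k + 1) = w % 2 ^ k ^^^ (bif w.testBit k then 2 ^ k else 0) := by
        refine Nat.eq_of_testBit_eq fun j => ?_
        rw [Nat.testBit_xor, Nat.testBit_mod_two_pow, Nat.testBit_mod_two_pow]
        rcases lt_trichotomy j k with h1 | rfl | h1
        · rw [decide_eq_true h1, decide_eq_true (Nat.lt_succ_of_lt h1)]
          cases w.testBit k
          · rw [cond_false, Nat.zero_testBit, Bool.xor_false]
          · rw [cond_true, Nat.testBit_two_pow_of_ne h1.ne', Bool.xor_false]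
        · rw [decide_eq_true (Nat.lt_succ_self j), decide_eq_false (lt_irrefl j)]
          cases w.testBit j
          · rw [cond_false, Nat.zero_testBit]; rfl
          · rw [cond_true, Nat.testBit_two_pow_self]; rfl
        · rw [decide_eq_false (by omega : ¬ j < k + 1), decide_eq_false (by omega : ¬ j < k)]
          cases w.testBit k
          · rw [cond_false, Nat.zero_testBit]; rfl
          · rw [cond_true, Nat.testBit_two_pow_of_ne h1.ne]; rfl
      rw [e, hF, ← ih (by omega)]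
      cases w.testBit k
      · rw [cond_false, h0]
      · rw [cond_true, ← h k (by omega)]
  have := key n le_rfl
  rwa [Nat.mod_eq_of_lt hw] at this

private theorem fp_of {n : ℕ} {a b u v : List ℕ} (h : ((List.range 30).all fun i => Nat.beq i 0 ||
      (List.range n).all fun k => 2 ^ k == (apc n (u.getD i 0) (2 ^ k) ^^^ apc n (b.getD i 0) (apc n (u.getD i 0) (2 ^ k))) ^^^
        (apc n (v.getD i 0) (2 ^ k) ^^^ apc n (a.getD i 0) (apc n (v.getD i 0) (2 ^ k)))) = true) :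
    ((List.range 30).all fun i => Nat.beq i 0 || fpB n (a.getD i 0) (b.getD i 0) (u.getD i 0) (v.getD i 0)) = true := by
  refine List.all_eq_true.2 fun i hi => ?_
  refine Bool.or_eq_true_iff.2 ((Bool.or_eq_true_iff.1 (List.all_eq_true.1 h i hi)).imp_right fun h1 => ?_)
  generalize a.getD i 0 = a, b.getD i 0 = b, u.getD i 0 = u, v.getD i 0 = v at h1 ⊢
  refine List.all_eq_true.2 fun w hw => beq_iff_eq.2 (lin_ext
    (F := fun w => (apc n u w ^^^ apc n b (apc n u w)) ^^^ (apc n v w ^^^ apc n a (apc n v w))) (fun x y => ?_)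
    (fun k hk => eq_of_beq (List.all_eq_true.1 h1 k (List.mem_range.2 hk))) (List.mem_range.1 hw))
  have e : ∀ c x y, apc n c (x ^^^ y) = apc n c x ^^^ apc n c y := fun c x y => apk_xor' n c x y n
  simp only [e]
  ac_rfl

private noncomputable def _root_.Cfsg.Agent.KO4ba0632.k4 : type_of% @Nat.decEq := @(fun x0 x1 => @Bool.rec.{1} @(fun x2 => (@Eq.{1} _ (@Nat.beq @x0 @x1) @x2) → @Decidable (@Eq.{1} _ @x0 @x1)) @(fun x2 => @Decidable.isFalse _ (@Nat.ne_of_beq_eq_false _ _ @x2)) @(fun x2 => @Decidable.isTrue _ (@Nat.eq_of_beq_eq_true _ _ @x2)) (@Nat.beq @x0 @x1) (@Eq.refl.{1} _ (@Nat.beq @x0 @x1)))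
private theorem _root_.Cfsg.Agent.KO4ba0632.e4 : @Nat.decEq = @_root_.Cfsg.Agent.KO4ba0632.k4 := by delta _root_.Cfsg.Agent.KO4ba0632.k4; rfl'
private noncomputable def _root_.Cfsg.Agent.KO4ba0632.k5 : type_of% @instDecidableEqNat := @Cfsg.Agent.KO4ba0632.k4
private theorem _root_.Cfsg.Agent.KO4ba0632.e5 : @instDecidableEqNat = @_root_.Cfsg.Agent.KO4ba0632.k5 := by delta _root_.Cfsg.Agent.KO4ba0632.k5; rewrite [← Cfsg.Agent.KO4ba0632.e4]; rfl'
private noncomputable def _root_.Cfsg.Agent.KO4ba0632.oEq.{ku} (α : Sort ku) (a b : Nat) (f t : α) : α := @Decidable.rec (a = b) (fun _ => α) (fun _ => f) (fun _ => t) (Nat.decEq a b)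
private noncomputable def _root_.Cfsg.Agent.KO4ba0632.k6.{ku} (α : Sort ku) (a b : Nat) (f t : α) : α := @Bool.rec (fun _ => α) f t (Nat.beq a b)
private theorem _root_.Cfsg.Agent.KO4ba0632.e6.{ku} : @_root_.Cfsg.Agent.KO4ba0632.oEq.{ku} = @_root_.Cfsg.Agent.KO4ba0632.k6.{ku} := funext fun α => funext fun a => funext fun b => funext fun f => funext fun t => by delta _root_.Cfsg.Agent.KO4ba0632.oEq _root_.Cfsg.Agent.KO4ba0632.k6; cases h : Nat.beq a b <;> cases Nat.decEq a b <;> rename_i g <;> first | rfl | exact absurd g (Nat.ne_of_beq_eq_false h) | exact absurd (Nat.eq_of_beq_eq_true h) g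
private theorem _root_.Cfsg.Agent.KO4ba0632.e9.{ku, kv} {α : Type kv} {M : List α → Sort ku} (φ : ∀ l, M l) {z : M List.nil} {s : ∀ a l, M l → M (List.cons a l)} (h0 : φ List.nil = z) (hs : ∀ a l, φ (List.cons a l) = s a l (φ l)) (l : List α) : φ l = @List.rec α M z s l := List.rec h0 (fun a l ih => (hs a l).trans (congrArg (s a l) ih)) l
private noncomputable def _root_.Cfsg.Agent.KO4ba0632.k10.{ku0} : type_of% @List.all.{ku0} := @(fun x0 x1 x2 => @List.rec.{(ku0+1), ku0} @x0 @(fun x3 => (@x0 → @Bool) → @Bool) @(fun x3 => @Bool.true) @(fun x3 x4 x5 x6 => @Bool.rec.{1} @(fun x7 => @Bool) @Bool.false (@x5 @x6) (@x6 @x3)) @x1 @x2)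
private theorem _root_.Cfsg.Agent.KO4ba0632.e10.{ku0} : @List.all.{ku0} = @_root_.Cfsg.Agent.KO4ba0632.k10.{ku0} := by delta _root_.Cfsg.Agent.KO4ba0632.k10; funext a0 a1 a2; refine (congrFun (_root_.Cfsg.Agent.KO4ba0632.e9 (fun a1 a2 => @List.all.{ku0} a0 a1 a2) ?_ (fun c0 c1 => ?_) a1) a2 :) <;> (rfl')
private theorem _root_.Cfsg.Agent.KO4ba0632.e11.{ku} {M : Nat → Sort ku} (φ : ∀ n, M n) {z : M Nat.zero} {s : ∀ n, M n → M (Nat.succ n)} (h0 : φ Nat.zero = z) (hs : ∀ n, φ (Nat.succ n) = s n (φ n)) (n : Nat) : φ n = @Nat.rec M z s n := Nat.rec h0 (fun n ih => (hs n).trans (congrArg (s n) ih)) n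
private noncomputable def _root_.Cfsg.Agent.KO4ba0632.k12 : type_of% @List.range.loop := @(fun x0 x1 => @Nat.rec.{1} @(fun x2 => (@List.{0} ℕ) → @List.{0} ℕ) @(fun x2 => @x2) @(fun x2 x3 x4 => @x3 (@x2 :: @x4)) @x0 @x1)
private theorem _root_.Cfsg.Agent.KO4ba0632.e12 : @List.range.loop = @_root_.Cfsg.Agent.KO4ba0632.k12 := by delta _root_.Cfsg.Agent.KO4ba0632.k12; funext a0 a1; refine (congrFun (_root_.Cfsg.Agent.KO4ba0632.e11 (fun a0 a1 => @List.range.loop a0 a1) ?_ (fun c0 => ?_) a0) a1 :) <;> (rfl')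
private noncomputable def _root_.Cfsg.Agent.KO4ba0632.k13 : type_of% @List.range := @(fun x0 => @Cfsg.Agent.KO4ba0632.k12 @x0 [])
private theorem _root_.Cfsg.Agent.KO4ba0632.e13 : @List.range = @_root_.Cfsg.Agent.KO4ba0632.k13 := by delta _root_.Cfsg.Agent.KO4ba0632.k13; rewrite [← Cfsg.Agent.KO4ba0632.e12]; rfl'
private noncomputable def _root_.Cfsg.Agent.KO4ba0632.k14 : (by first | exact type_of% @Cfsg.Agent.H374.QS.FF.apf | exact Unit : Sort _) := by first | (refine @Subtype.val _ (fun g => @Cfsg.Agent.H374.QS.FF.apf = @g) (@Subtype.mk _ _ (@(fun x0 x1 x2 => @Nat.rec.{1} @(fun x3 => ℕ) (nat_lit 0) @(fun x3 x4 => @Nat.xor @x4 (@Nat.mul (@Nat.land (nat_lit 1) (@Nat.shiftRight @x2 @x3)) (@Nat.mod (@Nat.shiftRight @x1 (@Nat.mul @x0 @x3)) (@Nat.pow (nat_lit 2) @x0)))) @x0)) ?_); rfl') | exact @Cfsg.Agent.H374.QS.FF.apf | exact ()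
private theorem _root_.Cfsg.Agent.KO4ba0632.e14 : (by first | exact @Cfsg.Agent.H374.QS.FF.apf = @_root_.Cfsg.Agent.KO4ba0632.k14 | exact True : Prop) := by first | (delta _root_.Cfsg.Agent.KO4ba0632.k14; exact @Subtype.property _ (fun g => @Cfsg.Agent.H374.QS.FF.apf = @g) _) | rfl | trivial
private noncomputable def _root_.Cfsg.Agent.KO4ba0632.k16.{ku0} : type_of% @List.get?Internal.{ku0} := @(fun x0 x1 x2 => @List.rec.{(ku0+1), ku0} @x0 @(fun x3 => ℕ → @Option.{ku0} @x0) @(fun x3 => @Option.none.{ku0} _) @(fun x3 x4 x5 x6 => @Nat.rec.{(ku0+1)} @(fun x7 => @Option.{ku0} @x0) (@Option.some.{ku0} _ @x3) @(fun x7 x8 => @x5 @x7) @x6) @x1 @x2)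
private theorem _root_.Cfsg.Agent.KO4ba0632.e16.{ku0} : @List.get?Internal.{ku0} = @_root_.Cfsg.Agent.KO4ba0632.k16.{ku0} := by delta _root_.Cfsg.Agent.KO4ba0632.k16; funext a0 a1 a2; refine (congrFun (_root_.Cfsg.Agent.KO4ba0632.e9 (fun a1 a2 => @List.get?Internal.{ku0} a0 a1 a2) ?_ (fun c0 c1 => ?_) a1) a2 :) <;> [(funext b0; (rfl')); (funext b0; (cases b0 with | @zero  => (rfl') | @succ b0_0 => (rfl')))]
private noncomputable def _root_.Cfsg.Agent.KO4ba0632.k17.{ku0} : type_of% @List.getD.{ku0} := @(fun x0 x1 x2 x3 => @Option.rec.{(ku0+1), ku0} @x0 @(fun x4 => @x0) @x3 @(fun x4 => @x4) (@Cfsg.Agent.KO4ba0632.k16.{ku0} _ @x1 @x2))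
private theorem _root_.Cfsg.Agent.KO4ba0632.e17.{ku0} : @List.getD.{ku0} = @_root_.Cfsg.Agent.KO4ba0632.k17.{ku0} := by delta _root_.Cfsg.Agent.KO4ba0632.k17; rewrite [← Cfsg.Agent.KO4ba0632.e16.{ku0}]; rfl'
private noncomputable def _root_.Cfsg.Agent.KO4ba0632.k18.{ku0, ku1} : type_of% @List.foldr.{ku0, ku1} := @(fun x0 x1 x2 x3 x4 => @List.rec.{(ku1+1), ku0} @x0 @(fun x5 => @x1) @x3 @(fun x5 x6 x7 => @x2 @x5 @x7) @x4)
private theorem _root_.Cfsg.Agent.KO4ba0632.e18.{ku0, ku1} : @List.foldr.{ku0, ku1} = @_root_.Cfsg.Agent.KO4ba0632.k18.{ku0, ku1} := by delta _root_.Cfsg.Agent.KO4ba0632.k18; funext a0 a1 a2 a3 a4; refine (_root_.Cfsg.Agent.KO4ba0632.e9 (fun a4 => @List.foldr.{ku0, ku1} a0 a1 a2 a3 a4) ?_ (fun c0 c1 => ?_) a4 :) <;> (rfl')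
private noncomputable def _root_.Cfsg.Agent.KO4ba0632.k19 : (by first | exact type_of% @Cfsg.Agent.H612.Ore.B6 | exact Unit : Sort _) := by first | (refine @Subtype.val _ (fun g => @Cfsg.Agent.H612.Ore.B6 = @g) (@Subtype.mk _ _ (@(fun x0 x1 => @Cfsg.Agent.KO4ba0632.k6.{1} @Bool (@Nat.mod (@Nat.add (@Nat.shiftRight (nat_lit 150) (@Nat.land (@Nat.mod @x0 (nat_lit 8)) (@Nat.mod (@Nat.div @x1 (nat_lit 8)) (nat_lit 8)))) (@Nat.shiftRight (nat_lit 150) (@Nat.land (@Nat.mod (@Nat.div @x0 (nat_lit 8)) (nat_lit 8)) (@Nat.mod @x1 (nat_lit 8))))) (nat_lit 2)) (nat_lit 1) @Bool.false @Bool.true)) ?_); rewrite [← Cfsg.Agent.KO4ba0632.e6.{1}]; rfl') | exact @Cfsg.Agent.H612.Ore.B6 | exact ()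
private theorem _root_.Cfsg.Agent.KO4ba0632.e19 : (by first | exact @Cfsg.Agent.H612.Ore.B6 = @_root_.Cfsg.Agent.KO4ba0632.k19 | exact True : Prop) := by first | (delta _root_.Cfsg.Agent.KO4ba0632.k19; exact @Subtype.property _ (fun g => @Cfsg.Agent.H612.Ore.B6 = @g) _) | rfl | trivial
private noncomputable def _root_.Cfsg.Agent.KO4ba0632.k20 : (by first | exact type_of% @Cfsg.Agent.H374.QS.FF.st | exact Unit : Sort _) := by first | (refine @Subtype.val _ (fun g => @Cfsg.Agent.H374.QS.FF.st = @g) (@Subtype.mk _ _ (@(fun x0 x1 => @Bool.rec.{1} @(fun x2 => ℕ) @x1 (@Nat.xor @x1 @x0) (@Cfsg.Agent.KO4ba0632.k19 @x1 @x0))) ?_); rewrite [← Cfsg.Agent.KO4ba0632.e19]; (try delta Cfsg.Agent.H374.QS.FF.st); (try generalize @Cfsg.Agent.H612.Ore.B6 = g0); rfl') | exact @Cfsg.Agent.H374.QS.FF.st | exact ()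
private theorem _root_.Cfsg.Agent.KO4ba0632.e20 : (by first | exact @Cfsg.Agent.H374.QS.FF.st = @_root_.Cfsg.Agent.KO4ba0632.k20 | exact True : Prop) := by first | (delta _root_.Cfsg.Agent.KO4ba0632.k20; exact @Subtype.property _ (fun g => @Cfsg.Agent.H374.QS.FF.st = @g) _) | rfl | trivial

theorem chkR : ((List.range 18).all fun j => (List.range 128).all fun v =>
    p6 (apc 7 (cAs.getD j 0) v) == (cls.getD j []).foldr st (p6 v)) = true := by
  rewrite [apc_eq]
  (first | (rewrite [Cfsg.Agent.KO4ba0632.e10.{0}, Cfsg.Agent.KO4ba0632.e13, Cfsg.Agent.KO4ba0632.e5, Cfsg.Agent.KO4ba0632.e14, Cfsg.Agent.KO4ba0632.e17.{0}, Cfsg.Agent.KO4ba0632.e18.{0, 0}, Cfsg.Agent.KO4ba0632.e20]; decide +kernel) | decide +kernel)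

private noncomputable def _root_.Cfsg.Agent.KO4ba0632.k21 : type_of% @Bool.and := @(fun x0 x1 => @Bool.rec.{1} @(fun x2 => @Bool) @Bool.false @x1 @x0)
private theorem _root_.Cfsg.Agent.KO4ba0632.e21 : @Bool.and = @_root_.Cfsg.Agent.KO4ba0632.k21 := by delta _root_.Cfsg.Agent.KO4ba0632.k21; rfl'

theorem chkR' : ((List.range 18).all fun j => (List.range 64).all fun v =>
    (cls.getD j []).foldr st ((cls.getD j []).foldr st v) == v && (cls.getD j []).all fun c => Nat.blt c 64) = true := by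
  (first | (rewrite [Cfsg.Agent.KO4ba0632.e10.{0}, Cfsg.Agent.KO4ba0632.e13, Cfsg.Agent.KO4ba0632.e21, Cfsg.Agent.KO4ba0632.e5, Cfsg.Agent.KO4ba0632.e18.{0, 0}, Cfsg.Agent.KO4ba0632.e20, Cfsg.Agent.KO4ba0632.e17.{0}]; decide +kernel) | decide +kernel)

theorem chkT : ((List.range 7).all fun j => (List.range 128).all fun v =>
    p6 (apc 7 (g7s.getD j 0) v) == st6 j (p6 v)) = true := by
  rewrite [apc_eq]
  decide +kernel

theorem apc_lt' (n c v : ℕ) : apc n c v < 2 ^ n := by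
  have key : ∀ k, apk n c v k < 2 ^ n := by
    intro k
    induction k with
    | zero => exact Nat.two_pow_pos n
    | succ k ih =>
      rw [apk]
      cases v.testBit k
      · exact ih
      · exact Nat.xor_lt_two_pow ih (col_lt _ _ _)
  exact key n

theorem ap_trc {c v : ℕ} (hc : c < 64) (hv : v < 64) : spAct.ap (tr (enc c)) v = st c v := by
  rw [spAct_ap, act_tr, st]
  have h := B6_om hv hc
  have hlt : v ^^^ c < 64 := Nat.xor_lt_two_pow (n := 6) hv hc
  by_cases h1 : om (enc v) (enc c) = 1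
  · rw [h, decide_eq_true h1, cond_true, h1, one_smul, ← enc_xor, cd_enc _ hlt]
  · have h0 : om (enc v) (enc c) = 0 := by
      rcases Cfsg.Agent.SporRec.TwoSp6.Sp.om_cases (enc v) (enc c) with h2 | h2
      · exact h2
      · exact absurd h2 h1
    rw [h, decide_eq_false h1, cond_false, h0, zero_smul, add_zero, cd_enc v hv]

theorem st_lt {c v : ℕ} (hc : c < 64) (hv : v < 64) : st c v < 64 := by
  rw [st]
  cases B6 v c
  · exact hv
  · exact Nat.xor_lt_two_pow (n := 6) hv hc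

/-- the element of `Sp₆(2)` given by a list of centres -/
def sc (l : List ℕ) : S := (l.map fun c => tr (enc c)).prod

theorem ap_sc {l : List ℕ} (hl : ∀ c ∈ l, c < 64) {v : ℕ} (hv : v < 64) :
    spAct.ap (sc l) v = l.foldr st v ∧ l.foldr st v < 64 := by
  induction l with
  | nil => exact ⟨spAct.one v hv, hv⟩
  | cons c l ih =>
    obtain ⟨h1, h2⟩ := ih fun c hc => hl c (List.mem_cons_of_mem _ hc)
    have hc := hl c List.mem_cons_self
    have e : sc (c :: l) = tr (enc c) * sc l := by simp [sc]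
    refine ⟨?_, ?_⟩
    · rw [e, spAct.mul _ _ _ hv, h1, ap_trc hc h2, List.foldr_cons]
    · rw [List.foldr_cons]; exact st_lt hc h2

private noncomputable def _root_.Cfsg.Agent.KO4ba0632.k22 : (by first | exact type_of% @Cfsg.Agent.H612.Ore.uc | exact Unit : Sort _) := by first | (refine @Subtype.val _ (fun g => @Cfsg.Agent.H612.Ore.uc = @g) (@Subtype.mk _ _ (@(fun x0 => @Option.rec.{1, 0} ℕ @(fun x1 => ℕ) (nat_lit 0) @(fun x1 => @x1) (@Cfsg.Agent.KO4ba0632.k16.{0} _ ((nat_lit 1) :: ((nat_lit 8) :: ((nat_lit 3) :: ((nat_lit 20) :: ((nat_lit 32) :: ((nat_lit 4) :: ((nat_lit 16) :: []))))))) @x0))) ?_); rewrite [← Cfsg.Agent.KO4ba0632.e16.{0}]; rfl') | exact @Cfsg.Agent.H612.Ore.uc | exact ()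
private theorem _root_.Cfsg.Agent.KO4ba0632.e22 : (by first | exact @Cfsg.Agent.H612.Ore.uc = @_root_.Cfsg.Agent.KO4ba0632.k22 | exact True : Prop) := by first | (delta _root_.Cfsg.Agent.KO4ba0632.k22; exact @Subtype.property _ (fun g => @Cfsg.Agent.H612.Ore.uc = @g) _) | rfl | trivial
private noncomputable def _root_.Cfsg.Agent.KO4ba0632.k23 : (by first | exact type_of% @Cfsg.Agent.H612.Ore.st6 | exact Unit : Sort _) := by first | (refine @Subtype.val _ (fun g => @Cfsg.Agent.H612.Ore.st6 = @g) (@Subtype.mk _ _ (@(fun x0 x1 => @Bool.rec.{1} @(fun x2 => ℕ) @x1 (@Nat.xor @x1 (@Cfsg.Agent.KO4ba0632.k22 @x0)) (@Cfsg.Agent.KO4ba0632.k19 @x1 (@Cfsg.Agent.KO4ba0632.k22 @x0)))) ?_); rewrite [← Cfsg.Agent.KO4ba0632.e19, ← Cfsg.Agent.KO4ba0632.e22]; (try delta Cfsg.Agent.H612.Ore.st6); (try generalize @Cfsg.Agent.H612.Ore.uc = g0); (try generalize @Cfsg.Agent.H612.Ore.B6 = g1); rfl') | exact @Cfsg.Agent.H612.Ore.st6 | exact ()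
private theorem _root_.Cfsg.Agent.KO4ba0632.e23 : (by first | exact @Cfsg.Agent.H612.Ore.st6 = @_root_.Cfsg.Agent.KO4ba0632.k23 | exact True : Prop) := by first | (delta _root_.Cfsg.Agent.KO4ba0632.k23; exact @Subtype.property _ (fun g => @Cfsg.Agent.H612.Ore.st6 = @g) _) | rfl | trivial
private noncomputable def _root_.Cfsg.Agent.KO4ba0632.k24 : (by first | exact type_of% @Cfsg.Agent.H612.Ore.wv6 | exact Unit : Sort _) := by first | (refine @Subtype.val _ (fun g => @Cfsg.Agent.H612.Ore.wv6 = @g) (@Subtype.mk _ _ (@(fun x0 x1 => @Cfsg.Agent.KO4ba0632.k18.{0, 0} _ _ @Cfsg.Agent.KO4ba0632.k23 @x1 @x0)) ?_); rewrite [← Cfsg.Agent.KO4ba0632.e23, ← Cfsg.Agent.KO4ba0632.e18.{0, 0}]; (try delta Cfsg.Agent.H612.Ore.wv6); (try generalize @Cfsg.Agent.H612.Ore.st6 = g0); rfl') | exact @Cfsg.Agent.H612.Ore.wv6 | exact ()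
private theorem _root_.Cfsg.Agent.KO4ba0632.e24 : (by first | exact @Cfsg.Agent.H612.Ore.wv6 = @_root_.Cfsg.Agent.KO4ba0632.k24 | exact True : Prop) := by first | (delta _root_.Cfsg.Agent.KO4ba0632.k24; exact @Subtype.property _ (fun g => @Cfsg.Agent.H612.Ore.wv6 = @g) _) | rfl | trivial

/-- the words are commutators in `Sp₆(2)` -/
theorem chkS : ((List.range 30).all fun i => (List.range 6).all fun k =>
    wv6 (aw.getD i []) (wv6 (bw.getD i []) (2 ^ k)) ==
      wv6 (rws.getD i []) (wv6 (bw.getD i []) (wv6 (aw.getD i []) (2 ^ k)))) = true := by (first | (rewrite [Cfsg.Agent.KO4ba0632.e10.{0}, Cfsg.Agent.KO4ba0632.e13, Cfsg.Agent.KO4ba0632.e5, Cfsg.Agent.KO4ba0632.e24, Cfsg.Agent.KO4ba0632.e17.{0}]; decide +kernel) | decide +kernel)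

theorem comm_aw {i : ℕ} (hi : i < 30) : wd tv (rws.getD i []) =
    wd tv (aw.getD i []) * wd tv (bw.getD i []) * (wd tv (aw.getD i []))⁻¹ * (wd tv (bw.getD i []))⁻¹ := by
  have h : wd tv (aw.getD i []) * wd tv (bw.getD i []) =
      wd tv (rws.getD i []) * (wd tv (bw.getD i []) * wd tv (aw.getD i [])) := by
    apply spAct.ext
    intro k hk
    have h1 := eq_of_beq (List.all_eq_true.1 (List.all_eq_true.1 chkS i (List.mem_range.2 hi)) k
      (List.mem_range.2 hk))
    have hk2 : 2 ^ k < 64 := two_pow_lt (n := 6) hk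
    have hlt : ∀ w : List ℕ, ∀ v, v < 64 → wv6 w v < 64 := by
      intro w v hv
      rw [← ap_wd w hv]
      exact spAct.lt _ _ hv
    rw [spAct.mul _ _ _ hk2, spAct.mul _ _ _ hk2, spAct.mul _ _ _ hk2, ap_wd _ hk2, ap_wd _ (hlt _ _ hk2),
      ap_wd _ hk2, ap_wd _ (hlt _ _ hk2), ap_wd _ (hlt _ _ (hlt _ _ hk2))]
    exact h1
  rw [h]
  group

private noncomputable def _root_.Cfsg.Agent.KO4ba0632.k25 : (by first | exact type_of% @Cfsg.Agent.H612.Ore.col | exact Unit : Sort _) := by first | (refine @Subtype.val _ (fun g => @Cfsg.Agent.H612.Ore.col = @g) (@Subtype.mk _ _ (@(fun x0 x1 x2 => @Nat.mod (@Nat.shiftRight @x1 (@Nat.mul @x0 @x2)) (@Nat.pow (nat_lit 2) @x0))) ?_); rfl') | exact @Cfsg.Agent.H612.Ore.col | exact ()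
private theorem _root_.Cfsg.Agent.KO4ba0632.e25 : (by first | exact @Cfsg.Agent.H612.Ore.col = @_root_.Cfsg.Agent.KO4ba0632.k25 | exact True : Prop) := by first | (delta _root_.Cfsg.Agent.KO4ba0632.k25; exact @Subtype.property _ (fun g => @Cfsg.Agent.H612.Ore.col = @g) _) | rfl | trivial

theorem chkA : ((List.range 30).all fun i => ((aw.getD i []).all fun j => Nat.blt j 7) &&
    ((bw.getD i []).all fun j => Nat.blt j 7) && isC 7 g7s (aw.getD i []) (a7s.getD i 0) &&
    isC 7 g7s (bw.getD i []) (b7s.getD i 0) && isC 8 g8s (aw.getD i []) (a8s.getD i 0) &&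
    isC 8 g8s (bw.getD i []) (b8s.getD i 0)) = true := by
  delta isC wv
  rewrite [apc_eq]
  (first | (rewrite [Cfsg.Agent.KO4ba0632.e10.{0}, Cfsg.Agent.KO4ba0632.e13, Cfsg.Agent.KO4ba0632.e21, Cfsg.Agent.KO4ba0632.e17.{0}, Cfsg.Agent.KO4ba0632.e5, Cfsg.Agent.KO4ba0632.e18.{0, 0}, Cfsg.Agent.KO4ba0632.e14, Cfsg.Agent.KO4ba0632.e25]; decide +kernel) | decide +kernel)

theorem fp7 : ((List.range 30).all fun i => Nat.beq i 0 ||
    fpB 7 (a7s.getD i 0) (b7s.getD i 0) (u7s.getD i 0) (v7s.getD i 0)) = true := fp_of (by decide +kernel)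

theorem fp8 : ((List.range 30).all fun i => Nat.beq i 0 ||
    fpB 8 (a8s.getD i 0) (b8s.getD i 0) (u8s.getD i 0) (v8s.getD i 0)) = true := fp_of (by decide +kernel)

theorem nt8 : ((List.range 30).all fun i => Nat.beq i 0 || (List.range 8).any fun k =>
    !(apc 8 (a8s.getD i 0) (col 8 (b8s.getD i 0) k) == apc 8 (b8s.getD i 0) (col 8 (a8s.getD i 0) k))) = true := by
  decide +kernel

end Cfsg.Agent.H374.QS.FF
end

-- part: H374/QS/FF/ParA
section
/-!
# 2.F₄(2): the preimage of `P_s`, the module `A = 2^7` (helper374)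

`PD b z f` : `f : P →* LL` with kernel `⟨z⟩`, `b r` (`15 ≤ r < 48`) lifts of the root elements of `P_s` with signs
such that `A = ⟨b 41, …, b 47⟩` is normal and does not contain `z`.
* `R2 g s` : `g` acts on `A / ⟨b 44⟩` as `s : Sp₆(2)`; `total`, `surj`, `ker_R` (the kernel is `Q`).
-/

set_option autoImplicit false

namespace Cfsg.Agent.H374.QS.FF

open Cfsg.Lie Cfsg.Agent.H612.Ore
open Cfsg.Agent.FourTwo.Comm Cfsg.Agent.FourTwo.Par
open Cfsg.Agent.FourTwo.Cent (psP Ps)
open Cfsg.Agent.FourTwo.CentAll (isShort)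
open Cfsg.Agent.FourTwo.Base (LL x)
open Cfsg.Agent.SporRec.TwoSp6.Sp (V S om tr act enc exists_enc)

/-- the roots of `W_s`, `Q_s` -/
def w41 (r : ℕ) : Bool := decide (41 ≤ r)

@[inherit_doc w41] def w33 (r : ℕ) : Bool := decide (33 ≤ r)

/-- the sign of the commutator relation -/
def sgB (r s : ℕ) : Bool :=
  ((cmg r s).countP isShort + (if (cmg r s).length = 2 then 1 else 0)) % 2 == 1

/-- a power of `z` -/
def sz {P : Type*} [Group P] (z : P) (e : Bool) : P := if e = true then z else 1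

/-- products of words -/
def wb {P : Type*} [Group P] (b : ℕ → P) (w : List ℕ) : P := (w.map b).prod

/-- the code of a word -/
def cdw (lo : ℕ) (w : List ℕ) : ℕ := w.foldr (fun c v => 2 ^ (c - lo) ^^^ v) 0

/-- a lift of the parabolic subgroup `P_s` -/
structure PD {P : Type*} [Group P] (b : ℕ → P) (z : P) (f : P →* LL) : Prop where
  z1 : z ≠ 1
  z2 : z * z = 1
  zc : ∀ g, g * z = z * g
  fz : f z = 1
  sq : ∀ r, 15 ≤ r → r < 48 → b r * b r = 1
  cj : ∀ r, 15 ≤ r → r < 48 → ∀ s, 15 ≤ s → s < 48 → r ≠ s → r + s ≠ 47 →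
    b r * b s * (b r)⁻¹ = sz z (sgB r s) * wb b (s :: cmg r s)
  mp : ∀ r, 15 ≤ r → r < 48 → f (b r) = x r
  ker : ∀ g, f g = 1 → g = 1 ∨ g = z
  gen : Subgroup.closure ({g | ∃ r, 15 ≤ r ∧ r < 48 ∧ g = b r} ∪ {z}) = ⊤

/-! ### tables -/

theorem allR {a n : ℕ} {p : ℕ → Bool} (h : ((List.range n).all fun i => p (a + i)) = true) {r : ℕ} (h1 : a ≤ r)
    (h2 : r < a + n) : p r = true := by
  have h3 := List.all_eq_true.1 h (r - a) (List.mem_range.2 (by omega))
  rwa [show a + (r - a) = r by omega] at h3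

def t2 (r s : ℕ) : Bool := if r = s then col 7 (cAr r) (s - 41) == 2 ^ (s - 41) else
  ((cmg r s).all fun c => decide (41 ≤ c) && decide (c < 48)) && !(sgB r s) &&
    (cdw 41 (s :: cmg r s) == col 7 (cAr r) (s - 41))

def t3 (r s : ℕ) : Bool := r == s || (if r + s = 73 then cmg r s == [44] && sgB r s else cmg r s == [] && !sgB r s)

def t4 (r s : ℕ) : Bool := ((cmg r s).all fun c => decide (33 ≤ c) && decide (c < 48)) &&
  (cdw 33 ((s :: cmg r s).filter fun c => decide (c < 41)) == col 8 (cVs.getD (r - 15) 0) (s - 33))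

def t5 (r s : ℕ) : Bool := r == s || (cmg r s == [] && !sgB r s)

theorem tab2 : ((List.range 33).all fun i => (List.range 7).all fun j => t2 (15 + i) (41 + j)) = true := by
  decide +kernel
theorem tab3 : ((List.range 8).all fun i => (List.range 8).all fun j => t3 (33 + i) (33 + j)) = true := by
  decide +kernel
theorem tab4 : ((List.range 18).all fun i => (List.range 8).all fun j => t4 (15 + i) (33 + j)) = true := by
  decide +kernel
theorem tab6 : ((List.range 15).all fun i => (List.range 7).all fun j => t5 (33 + i) (41 + j)) = true := by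
  decide +kernel

theorem t2_of {r s : ℕ} (h1 : 15 ≤ r) (h2 : r < 48) (h3 : 41 ≤ s) (h4 : s < 48) : t2 r s = true :=
  allR (p := fun s => t2 r s) (allR (p := fun r => (List.range 7).all fun j => t2 r (41 + j)) tab2 h1 (by omega)) h3
    (by omega)
theorem t3_of {r s : ℕ} (h1 : 33 ≤ r) (h2 : r < 41) (h3 : 33 ≤ s) (h4 : s < 41) : t3 r s = true :=
  allR (p := fun s => t3 r s) (allR (p := fun r => (List.range 8).all fun j => t3 r (33 + j)) tab3 h1 (by omega)) h3
    (by omega)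
theorem t4_of {r s : ℕ} (h1 : 15 ≤ r) (h2 : r < 33) (h3 : 33 ≤ s) (h4 : s < 41) : t4 r s = true :=
  allR (p := fun s => t4 r s) (allR (p := fun r => (List.range 8).all fun j => t4 r (33 + j)) tab4 h1 (by omega)) h3
    (by omega)
theorem t6_of {r s : ℕ} (h1 : 33 ≤ r) (h2 : r < 48) (h3 : 41 ≤ s) (h4 : s < 48) : t5 r s = true :=
  allR (p := fun s => t5 r s) (allR (p := fun r => (List.range 7).all fun j => t5 r (41 + j)) tab6 h1 (by omega)) h3
    (by omega)

section

variable {P : Type*} [Group P] {b : ℕ → P} {z : P} {f : P →* LL}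

theorem sz_false : sz z false = 1 := by simp [sz]
theorem sz_true : sz z true = z := by simp [sz]
theorem wb_nil : wb b [] = 1 := rfl
theorem wb_cons (r : ℕ) (w : List ℕ) : wb b (r :: w) = b r * wb b w := by simp [wb]

/-- the basis of `A` -/
abbrev tA (b : ℕ → P) (k : ℕ) : P := b (41 + k)

section

variable (D : PD b z f)

include D

theorem PD.comm_of {r s : ℕ} (h1 : 15 ≤ r) (h2 : r < 48) (h3 : 15 ≤ s) (h4 : s < 48) (h5 : r + s ≠ 47)
    (h : t5 r s = true) : b r * b s = b s * b r := by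
  by_cases e : r = s
  · rw [e]
  · rw [t5, Bool.or_eq_true, Bool.and_eq_true, beq_iff_eq, beq_iff_eq, Bool.not_eq_true'] at h
    rcases h with h | ⟨h, h'⟩
    · exact absurd h e
    · have := D.cj r h1 h2 s h3 h4 e h5
      rw [h', h, sz_false, one_mul, wb_cons, wb_nil, mul_one] at this
      rw [← mul_inv_eq_iff_eq_mul]
      exact this

/-- `W_s` and `Q_s` commute -/
theorem PD.commAQ {r s : ℕ} (h1 : 33 ≤ r) (h2 : r < 48) (h3 : 41 ≤ s) (h4 : s < 48) : b r * b s = b s * b r :=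
  D.comm_of (by omega) h2 (by omega) h4 (by omega) (t6_of h1 h2 h3 h4)

theorem PD.eA : EAb (tA b) 7 where
  sq i hi := D.sq (41 + i) (by omega) (by omega)
  cm i hi j hj := D.commAQ (by omega) (by omega) (by omega) (by omega)

theorem PD.wb_code {w : List ℕ} (h : ∀ c ∈ w, 41 ≤ c ∧ c < 48) : wb b w = el (tA b) 7 (cdw 41 w) := by
  induction w with
  | nil => rw [wb_nil, cdw, List.foldr_nil, el_zero]
  | cons c w ih =>
    have hc := h c List.mem_cons_self
    have e : cdw 41 (c :: w) = 2 ^ (c - 41) ^^^ cdw 41 w := rfl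
    rw [wb_cons, ih fun d hd => h d (List.mem_cons_of_mem _ hd), e, D.eA.el_xor le_rfl,
      el_two_pow (show c - 41 < 7 by omega)]
    show b c * _ = b (41 + (c - 41)) * _
    rw [show 41 + (c - 41) = c by omega]

theorem PD.actA {r : ℕ} (h1 : 15 ≤ r) (h2 : r < 48) : ActsC (tA b) 7 (b r) (cAr r) := by
  intro i hi
  have h := t2_of h1 h2 (show 41 ≤ 41 + i by omega) (show 41 + i < 48 by omega)
  unfold t2 at h
  rw [show 41 + i - 41 = i by omega] at h
  show b r * b (41 + i) * (b r)⁻¹ = _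
  by_cases e : r = 41 + i
  · rw [if_pos e, beq_iff_eq] at h
    rw [h, el_two_pow hi, ← e, mul_inv_cancel_right, e]
  · rw [if_neg e, Bool.and_eq_true, Bool.and_eq_true, List.all_eq_true, beq_iff_eq, Bool.not_eq_true'] at h
    obtain ⟨⟨h3, h4⟩, h5⟩ := h
    rw [D.cj r h1 h2 (41 + i) (by omega) (by omega) e (by omega), h4, sz_false, one_mul, ← h5]
    apply D.wb_code
    intro c hc
    rcases List.mem_cons.1 hc with rfl | hc
    · omega
    · have := h3 c hc
      simpa using this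

/-- `f` on `A` -/
theorem PD.map_el (v : ℕ) : f (el (tA b) 7 v) = el (fun k => x (41 + k)) 7 v := by
  rw [FF.map_el]
  have key : ∀ n, n ≤ 7 → el (fun i => f (tA b i)) n v = el (fun k => x (41 + k)) n v := by
    intro n
    induction n with
    | zero => intro _; rfl
    | succ n ih =>
      intro hn
      rw [el, el, ih (by omega), D.mp (41 + n) (by omega) (by omega)]
  exact key 7 le_rfl

end

/-- uniqueness of the codes in `LL` -/
theorem elx_eq (a n v : ℕ) : el (fun k => x (a + k)) n v =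
    Cfsg.Agent.FourTwo.Base.wd ((List.range' a n).filter fun r => v.testBit (r - a)) := by
  induction n with
  | zero => rfl
  | succ n ih =>
    rw [el, ih, List.range'_1_concat, List.filter_append, Cfsg.Agent.FourTwo.Base.wd_append]
    congr 1
    rw [List.filter_cons, show a + n - a = n by omega, List.filter_nil]
    split_ifs
    · rw [Cfsg.Agent.FourTwo.Base.wd_one]
    · rfl

theorem elx_one {a n v : ℕ} (ha : 24 ≤ a) (hn : a + n ≤ 48) (h : el (fun k => x (a + k)) n v = 1) :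
    ∀ k, k < n → v.testBit k = false := by
  intro k hk
  rw [elx_eq] at h
  have h1 : Cfsg.Agent.FourTwo.Base.wd ((List.range' a n).filter fun r => v.testBit (r - a)) =
      Cfsg.Agent.FourTwo.Base.wd ((List.range' a n).filter fun _ => false) := by
    rw [h, List.filter_false]
    rfl
  have h2 := Cfsg.Agent.FourTwo.BN.nf_unique (by
    intro r hr
    rw [List.mem_range'_1] at hr
    omega) (List.pairwise_lt_range' ..) h1 (a + k) (by rw [List.mem_range'_1]; omega)
  rwa [show a + k - a = k by omega] at h2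

theorem eq_zero_of_bits {n v : ℕ} (hv : v < 2 ^ n) (h : ∀ k, k < n → v.testBit k = false) : v = 0 := by
  apply Nat.eq_of_testBit_eq
  intro i
  rw [Nat.zero_testBit]
  by_cases hi : i < n
  · exact h i hi
  · exact Nat.testBit_lt_two_pow (lt_of_lt_of_le hv (Nat.pow_le_pow_right (by norm_num) (by omega)))

section

variable (D : PD b z f)

include D

theorem PD.el_eq_one {v : ℕ} (hv : v < 128) (h : f (el (tA b) 7 v) = 1) : v = 0 :=
  eq_zero_of_bits (n := 7) hv (elx_one (a := 41) (n := 7) (by norm_num) (by norm_num) (by rw [← D.map_el]; exact h))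

theorem PD.el_ne_z {v : ℕ} : el (tA b) 7 v ≠ z := by
  intro h
  have h1 : f (el (tA b) 7 (v % 2 ^ 7)) = 1 := by rw [← el_mod, h, D.fz]
  have h2 : v % 2 ^ 7 = 0 := D.el_eq_one (Nat.mod_lt _ (by norm_num)) h1
  rw [el_mod, h2, el_zero] at h
  exact D.z1 h.symm

theorem PD.el_inj {u v : ℕ} (hu : u < 128) (hv : v < 128) (h : el (tA b) 7 u = el (tA b) 7 v) : u = v := by
  have h1 : el (tA b) 7 (u ^^^ v) = 1 := by rw [D.eA.el_xor le_rfl, h, D.eA.el_sq]
  have h2 := D.el_eq_one (Nat.xor_lt_two_pow (n := 7) hu hv) (by rw [h1, map_one])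
  exact Nat.xor_eq_zero_iff.1 h2

end

/-! ### the action on `A / ⟨b 44⟩` -/

/-- `g` acts on `A / ⟨b 44⟩` as `s` -/
def RR (b : ℕ → P) (g : P) (s : S) : Prop := ∀ v, v < 128 → ∃ v', v' < 128 ∧
  g * el (tA b) 7 v * g⁻¹ = el (tA b) 7 v' ∧ p6 v' = spAct.ap s (p6 v)

/-- both for `g` and `g⁻¹` -/
def R2 (b : ℕ → P) (g : P) (s : S) : Prop := RR b g s ∧ RR b g⁻¹ s⁻¹

theorem RR.mul {g h : P} {s t : S} (h1 : RR b g s) (h2 : RR b h t) : RR b (g * h) (s * t) := by
  intro v hv
  obtain ⟨v', hv', e1, e2⟩ := h2 v hv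
  obtain ⟨v'', hv'', e3, e4⟩ := h1 v' hv'
  refine ⟨v'', hv'', ?_, ?_⟩
  · rw [← e3, ← e1]; group
  · rw [e4, e2, spAct.mul _ _ _ (p6_lt v hv)]

theorem R2.mul {g h : P} {s t : S} (h1 : R2 b g s) (h2 : R2 b h t) : R2 b (g * h) (s * t) :=
  ⟨h1.1.mul h2.1, by rw [mul_inv_rev, mul_inv_rev]; exact h2.2.mul h1.2⟩

theorem R2.inv {g : P} {s : S} (h : R2 b g s) : R2 b g⁻¹ s⁻¹ := ⟨h.2, by rw [inv_inv, inv_inv]; exact h.1⟩

theorem RR.one : RR b (1 : P) 1 := fun v hv =>
  ⟨v, hv, by group, (spAct.one _ (p6_lt v hv)).symm⟩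

theorem R2.one : R2 b (1 : P) 1 := ⟨RR.one, by rw [inv_one, inv_one]; exact RR.one⟩

/-- centralising elements -/
theorem RR.of_cen {g : P} (h : ∀ k, k < 7 → g * tA b k = tA b k * g) : RR b g 1 := by
  intro v hv
  refine ⟨v, hv, ?_, (spAct.one _ (p6_lt v hv)).symm⟩
  have h1 : g * el (tA b) 7 v = el (tA b) 7 v * g := by
    have key : ∀ n, n ≤ 7 → g * el (tA b) n v = el (tA b) n v * g := by
      intro n
      induction n with
      | zero => intro _; rw [el, mul_one, one_mul]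
      | succ n ih =>
        intro hn
        rw [el, ← mul_assoc, ih (by omega), mul_assoc, mul_assoc]
        congr 1
        split_ifs
        · exact h n (by omega)
        · rw [mul_one, one_mul]
    exact key 7 le_rfl
  rw [h1, mul_inv_cancel_right]

theorem R2.of_cen {g : P} (h : ∀ k, k < 7 → g * tA b k = tA b k * g) : R2 b g 1 := by
  refine ⟨RR.of_cen h, ?_⟩
  rw [inv_one]
  refine RR.of_cen fun k hk => ?_
  have := h k hk
  calc g⁻¹ * tA b k = g⁻¹ * (tA b k * g) * g⁻¹ := by group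
    _ = g⁻¹ * (g * tA b k) * g⁻¹ := by rw [this]
    _ = tA b k * g⁻¹ := by group

theorem sc_sq {j : ℕ} (hj : j < 18) : sc (cls.getD j []) * sc (cls.getD j []) = 1 ∧
    ∀ c ∈ cls.getD j [], c < 64 := by
  have h := List.all_eq_true.1 chkR' j (List.mem_range.2 hj)
  have h1 : ∀ v, v < 64 → (cls.getD j []).foldr st ((cls.getD j []).foldr st v) = v ∧
      ∀ c ∈ cls.getD j [], c < 64 := by
    intro v hv
    have h2 := List.all_eq_true.1 h v (List.mem_range.2 hv)
    rw [Bool.and_eq_true, beq_iff_eq, List.all_eq_true] at h2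
    exact ⟨h2.1, fun c hc => by have := h2.2 c hc; rwa [Nat.blt_eq] at this⟩
  have h2 := (h1 0 (by norm_num)).2
  refine ⟨?_, h2⟩
  apply spAct.ext
  intro k hk
  have hk2 : 2 ^ k < 64 := two_pow_lt (n := 6) hk
  obtain ⟨e1, e2⟩ := ap_sc h2 hk2
  rw [spAct.mul _ _ _ hk2, e1, (ap_sc h2 e2).1, (h1 _ hk2).1, spAct.one _ hk2]

section

variable (D : PD b z f)

include D

theorem PD.R2_z : R2 b z 1 := R2.of_cen fun k _ => (D.zc _).symm

theorem PD.R2_big {r : ℕ} (h1 : 33 ≤ r) (h2 : r < 48) : R2 b (b r) 1 :=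
  R2.of_cen fun _ hk => D.commAQ h1 h2 (by omega) (by omega)

theorem PD.R2_lev {j : ℕ} (hj : j < 18) : R2 b (b (15 + j)) (sc (cls.getD j [])) := by
  obtain ⟨h1, h2⟩ := sc_sq hj
  have e1 : (b (15 + j))⁻¹ = b (15 + j) := inv_eq_of_mul_eq_one_right (D.sq _ (by omega) (by omega))
  have e2 : (sc (cls.getD j []))⁻¹ = sc (cls.getD j []) := inv_eq_of_mul_eq_one_right h1
  have h3 : RR b (b (15 + j)) (sc (cls.getD j [])) := by
    intro v hv
    refine ⟨apc 7 (cAr (15 + j)) v, apc_lt' 7 _ _, conj_el D.eA (D.actA (by omega) (by omega)) v, ?_⟩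
    have h4 := List.all_eq_true.1 (List.all_eq_true.1 chkR j (List.mem_range.2 hj)) v (List.mem_range.2 hv)
    rw [beq_iff_eq] at h4
    rw [cAr, if_pos (by omega), show 15 + j - 15 = j by omega, h4, (ap_sc h2 (p6_lt v hv)).1]
  refine ⟨h3, ?_⟩
  rw [e1, e2]
  exact h3

theorem PD.R2_b {r : ℕ} (h1 : 15 ≤ r) (h2 : r < 48) : ∃ s, R2 b (b r) s := by
  by_cases h : r < 33
  · have := D.R2_lev (show r - 15 < 18 by omega)
    rw [show 15 + (r - 15) = r by omega] at this
    exact ⟨_, this⟩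
  · exact ⟨1, D.R2_big (by omega) h2⟩

theorem PD.total (g : P) : ∃ s, R2 b g s := by
  have hg : g ∈ Subgroup.closure ({g | ∃ r, 15 ≤ r ∧ r < 48 ∧ g = b r} ∪ {z}) := by
    rw [D.gen]; exact Subgroup.mem_top _
  induction hg using Subgroup.closure_induction with
  | mem g hg =>
    rcases hg with ⟨r, h1, h2, rfl⟩ | hg
    · exact D.R2_b h1 h2
    · rw [Set.mem_singleton_iff] at hg
      exact ⟨1, by rw [hg]; exact D.R2_z⟩
  | one => exact ⟨1, R2.one⟩
  | mul g h _ _ h1 h2 =>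
    obtain ⟨s, hs⟩ := h1
    obtain ⟨t, ht⟩ := h2
    exact ⟨s * t, hs.mul ht⟩
  | inv g _ h =>
    obtain ⟨s, hs⟩ := h
    exact ⟨s⁻¹, hs.inv⟩

end

/-- words for the generators `v i` -/
def vws : List (List ℕ) := [[18], [22, 28, 22], [29], [15, 18, 19], [28], [17, 19, 20], [27]]

theorem vws_chk : ((List.range 7).all fun i => ((vws.getD i []).all fun r => Nat.ble 15 r && Nat.blt r 33) &&
    (List.range 64).all fun v => ((vws.getD i []).foldr (fun r v => (cls.getD (r - 15) []).foldr st v) v) ==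
      st ([1, 48, 8, 3, 16, 6, 32].getD i 0) v) = true := by (first | (rewrite [Cfsg.Agent.KO4ba0632.e10.{0}, Cfsg.Agent.KO4ba0632.e13, Cfsg.Agent.KO4ba0632.e21, Cfsg.Agent.KO4ba0632.e17.{0}, Cfsg.Agent.KO4ba0632.e5, Cfsg.Agent.KO4ba0632.e18.{0, 0}, Cfsg.Agent.KO4ba0632.e20]; decide +kernel) | decide +kernel)

/-- the element of `Sp₆(2)` of a word in the Levi letters -/
def scw (w : List ℕ) : S := (w.map fun r => sc (cls.getD (r - 15) [])).prod

theorem ap_scw {w : List ℕ} (hw : ∀ r ∈ w, 15 ≤ r ∧ r < 33) {v : ℕ} (hv : v < 64) :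
    spAct.ap (scw w) v = w.foldr (fun r v => (cls.getD (r - 15) []).foldr st v) v ∧
      w.foldr (fun r v => (cls.getD (r - 15) []).foldr st v) v < 64 := by
  induction w with
  | nil => exact ⟨spAct.one v hv, hv⟩
  | cons r w ih =>
    obtain ⟨h1, h2⟩ := ih fun c hc => hw c (List.mem_cons_of_mem _ hc)
    have hr := hw r List.mem_cons_self
    have e : scw (r :: w) = sc (cls.getD (r - 15) []) * scw w := by simp [scw]
    obtain ⟨h3, h4⟩ := ap_sc (sc_sq (show r - 15 < 18 by omega)).2 h2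
    refine ⟨?_, ?_⟩
    · rw [e, spAct.mul _ _ _ hv, h1, h3, List.foldr_cons]
    · rw [List.foldr_cons]; exact h4

section

variable (D : PD b z f)

include D

theorem PD.R2_word {w : List ℕ} (hw : ∀ r ∈ w, 15 ≤ r ∧ r < 33) : R2 b (wd b w) (scw w) := by
  induction w with
  | nil => exact R2.one
  | cons r w ih =>
    have hr := hw r List.mem_cons_self
    have e : scw (r :: w) = sc (cls.getD (r - 15) []) * scw w := by simp [scw]
    rw [wd, e]
    refine R2.mul ?_ (ih fun c hc => hw c (List.mem_cons_of_mem _ hc))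
    have := D.R2_lev (show r - 15 < 18 by omega)
    rwa [show 15 + (r - 15) = r by omega] at this

theorem PD.surj (s : S) : ∃ g : P, R2 b g s := by
  have hs : s ∈ Subgroup.closure (Set.range fun i => tr (Cfsg.Agent.SporRec.TwoSp6.Sp.v i)) := by
    rw [Cfsg.Agent.SporRec.TwoSp6.Sp.closure_v]; exact Subgroup.mem_top _
  induction hs using Subgroup.closure_induction with
  | mem s hs =>
    obtain ⟨i, rfl⟩ := hs
    have h := List.all_eq_true.1 vws_chk i.val (List.mem_range.2 i.2)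
    rw [Bool.and_eq_true, List.all_eq_true, List.all_eq_true] at h
    have hw : ∀ r ∈ vws.getD i.val [], 15 ≤ r ∧ r < 33 := by
      intro r hr
      have := h.1 r hr
      rw [Bool.and_eq_true, Nat.ble_eq, Nat.blt_eq] at this
      exact this
    refine ⟨wd b (vws.getD i.val []), ?_⟩
    have e : scw (vws.getD i.val []) = tr (Cfsg.Agent.SporRec.TwoSp6.Sp.v i) := by
      apply spAct.ext
      intro k hk
      have hk2 : 2 ^ k < 64 := two_pow_lt (n := 6) hk
      have h2 := h.2 _ (List.mem_range.2 hk2)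
      rw [beq_iff_eq] at h2
      have hc : ([1, 48, 8, 3, 16, 6, 32] : List ℕ).getD i.val 0 < 64 := by
        have : ∀ i : Fin 7, ([1, 48, 8, 3, 16, 6, 32] : List ℕ).getD i.val 0 < 64 := by decide
        exact this i
      rw [(ap_scw hw hk2).1, h2, ← ap_trc hc hk2]
      rfl
    have h3 := D.R2_word hw
    rw [e] at h3
    exact h3
  | one => exact ⟨1, R2.one⟩
  | mul s t _ _ h1 h2 =>
    obtain ⟨g, hg⟩ := h1
    obtain ⟨h, hh⟩ := h2
    exact ⟨g * h, hg.mul hh⟩
  | inv s _ h =>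
    obtain ⟨g, hg⟩ := h
    exact ⟨g⁻¹, hg.inv⟩

end

private noncomputable def _root_.Cfsg.Agent.KO4ba0632.k0 : type_of% @Decidable.decide := @(fun x0 x1 => @Decidable.rec.{1} _ @(fun x2 => @Bool) @(fun x2 => @Bool.false) @(fun x2 => @Bool.true) @x1)
private theorem _root_.Cfsg.Agent.KO4ba0632.e0 : @Decidable.decide = @_root_.Cfsg.Agent.KO4ba0632.k0 := by delta _root_.Cfsg.Agent.KO4ba0632.k0; rfl'
private noncomputable def _root_.Cfsg.Agent.KO4ba0632.k1l (n : Nat) (P : ∀ k, k < n → Prop) (H : ∀ k h, Decidable (P k h)) (m : Nat) : m ≤ n → Bool := @Nat.rec (fun m => m ≤ n → Bool) (fun _ => true) (fun k ih h => @Decidable.rec (P k h) (fun _ => Bool) (fun _ => false) (fun _ => ih (Nat.le_of_succ_le h)) (H k h)) m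
private theorem _root_.Cfsg.Agent.KO4ba0632.k1ls (n : Nat) (P : ∀ k, k < n → Prop) (H : ∀ k h, Decidable (P k h)) (m : Nat) : ∀ h : m ≤ n, _root_.Cfsg.Agent.KO4ba0632.k1l n P H m h = true ↔ ∀ k (g : k < m), P k (Nat.lt_of_lt_of_le g h) := by induction m with | zero => exact fun _ => ⟨fun _ _ g => absurd g (Nat.not_lt_zero _), fun _ => rfl⟩ | succ m ih => intro h; show @Decidable.rec (P m h) (fun _ => Bool) (fun _ => false) (fun _ => _root_.Cfsg.Agent.KO4ba0632.k1l n P H m (Nat.le_of_succ_le h)) (H m h) = true ↔ _; cases H m h with | isFalse q => exact ⟨fun g => absurd g Bool.false_ne_true, fun g => absurd (g m (Nat.lt_succ_self m)) q⟩ | isTrue q => exact ⟨fun g k hk => (Nat.lt_succ_iff_lt_or_eq.1 hk).elim ((ih _).1 g k) fun e => by subst e; exact q, fun g => (ih _).2 fun k hk => g k (Nat.lt_succ_of_lt hk)⟩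
private noncomputable def _root_.Cfsg.Agent.KO4ba0632.k1 (n : Nat) (P : ∀ k, k < n → Prop) (H : ∀ k h, Decidable (P k h)) : Decidable (∀ k h, P k h) := @Bool.rec (fun b => _root_.Cfsg.Agent.KO4ba0632.k1l n P H n (Nat.le_refl n) = b → Decidable (∀ k h, P k h)) (fun g => isFalse fun q => Bool.false_ne_true (g.symm.trans ((_root_.Cfsg.Agent.KO4ba0632.k1ls n P H n _).2 fun k h => q k h))) (fun g => isTrue fun k h => (_root_.Cfsg.Agent.KO4ba0632.k1ls n P H n _).1 g k h) (_root_.Cfsg.Agent.KO4ba0632.k1l n P H n (Nat.le_refl n)) rfl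
private theorem _root_.Cfsg.Agent.KO4ba0632.e1 : @Nat.decidableBallLT = @_root_.Cfsg.Agent.KO4ba0632.k1 := funext fun _ => funext fun _ => funext fun _ => Subsingleton.elim _ _
private noncomputable def _root_.Cfsg.Agent.KO4ba0632.k8 : type_of% @instDecidableOr := @(fun x0 x1 x2 x3 => @Decidable.rec.{1} _ @(fun x4 => @Decidable (@Or @x0 @x1)) @(fun x4 => @Decidable.rec.{1} _ @(fun x5 => @Decidable (@Or @x0 @x1)) @(fun x5 => @Decidable.isFalse _ (@instDecidableOr._proof_1 _ _ @x4 @x5)) @(fun x5 => @Decidable.isTrue _ (@Or.inr _ _ @x5)) @x3) @(fun x4 => @Decidable.isTrue _ (@Or.inl _ _ @x4)) @x2)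
private theorem _root_.Cfsg.Agent.KO4ba0632.e8 : @instDecidableOr = @_root_.Cfsg.Agent.KO4ba0632.k8 := by delta _root_.Cfsg.Agent.KO4ba0632.k8; rfl'
private noncomputable def _root_.Cfsg.Agent.KO4ba0632.k48 : type_of% @Nat.decidableExistsLT := @(fun x0 x1 x2 => @Nat.rec.{1} @(fun x3 => @Decidable (@Exists.{1} _ @(fun x4 => @And (@LT.lt.{0} _ _ @x4 @x3) (@x0 @x4)))) (@Decidable.isFalse _ (@Nat.decidableExistsLT._proof_5 _)) @(fun x3 x4 => @Decidable.rec.{1} _ @(fun x5 => @Decidable (@Exists.{1} _ @(fun x6 => @And (@LT.lt.{0} _ _ @x6 (@HAdd.hAdd.{0, 0, 0} _ _ _ _ @x3 ((1 : ℕ)))) (@x0 @x6)))) @(fun x5 => @Decidable.isFalse _ (@decidable_of_decidable_of_iff._proof_1 _ _ (@Nat.decidableExistsLT._proof_10 _ @x3) @x5)) @(fun x5 => @Decidable.isTrue _ (@Iff.mp _ _ (@Nat.decidableExistsLT._proof_10 _ @x3) @x5)) (@Cfsg.Agent.KO4ba0632.k8 _ _ @x4 (@x1 @x3))) @x2)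
private theorem _root_.Cfsg.Agent.KO4ba0632.e48 : @Nat.decidableExistsLT = @_root_.Cfsg.Agent.KO4ba0632.k48 := by delta _root_.Cfsg.Agent.KO4ba0632.k48; rewrite [← Cfsg.Agent.KO4ba0632.e8]; funext a0 a1 a2; refine (_root_.Cfsg.Agent.KO4ba0632.e11 (fun a2 => @Nat.decidableExistsLT a0 a1 a2) ?_ (fun c0 => ?_) a2 :) <;> (rfl')

theorem p6_surj : ∀ w < 64, ∃ v < 128, p6 v = w := by (first | (refine of_decide_eq_true ?_; rewrite [Cfsg.Agent.KO4ba0632.e0, Cfsg.Agent.KO4ba0632.e1, Cfsg.Agent.KO4ba0632.e48, Cfsg.Agent.KO4ba0632.e5]; decide +kernel) | decide +kernel)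

section

variable (D : PD b z f)

include D

theorem PD.uniq {g : P} {s t : S} (h1 : RR b g s) (h2 : RR b g t) : s = t := by
  apply spAct.ext
  intro k hk
  obtain ⟨v, hv, e⟩ := p6_surj (2 ^ k) (two_pow_lt (n := 6) hk)
  obtain ⟨v1, hv1, e1, e2⟩ := h1 v hv
  obtain ⟨v2, hv2, e3, e4⟩ := h2 v hv
  have : v1 = v2 := D.el_inj hv1 hv2 (by rw [← e1, e3])
  rw [← e, ← e2, ← e4, this]

theorem PD.R2_of_RR {g : P} {s : S} (h : RR b g s) : R2 b g s := by
  obtain ⟨t, ht⟩ := D.total g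
  rw [D.uniq h ht.1]
  exact ht

/-- `A` is normal -/
theorem PD.conjA (g : P) {v : ℕ} (hv : v < 128) : ∃ v', v' < 128 ∧ g * el (tA b) 7 v * g⁻¹ = el (tA b) 7 v' := by
  obtain ⟨s, hs⟩ := D.total g
  obtain ⟨v', hv', e, -⟩ := hs.1 v hv
  exact ⟨v', hv', e⟩

end

theorem sepk : ∀ k : Fin 7, k ≠ 3 → Cfsg.Agent.FourTwo.ClassSep.iv [41 + k.val] ≠
    Cfsg.Agent.FourTwo.ClassSep.iv [41 + k.val, 44] := by decide +kernel

section

variable (D : PD b z f)

include D

/-- the kernel of the action is `Q` -/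
theorem PD.ker_R {g : P} (h : RR b g 1) : f g ∈ RG w33 := by
  have hc : ∀ k, k < 7 → f g * x (41 + k) = x (41 + k) * f g := by
    intro k hk
    have hk2 : 2 ^ k < 128 := two_pow_lt (n := 7) hk
    obtain ⟨v', hv', e1, e2⟩ := h (2 ^ k) hk2
    rw [spAct.one _ (p6_lt _ hk2)] at e2
    rw [el_two_pow hk] at e1
    by_cases h3 : k = 3
    · subst h3
      have e3 : p6 (2 ^ 3) = 0 := by decide
      rw [e3] at e2
      rcases p6_zero v' hv' e2 with rfl | rfl
      · rw [el_zero] at e1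
        have e4 : b 44 = 1 := by
          have : tA b 3 = g⁻¹ * (g * tA b 3 * g⁻¹) * g := by group
          rw [e1] at this
          simpa using this
        have e5 := D.mp 44 (by norm_num) (by norm_num)
        rw [e4, map_one] at e5
        exact absurd e5.symm (Cfsg.Agent.FourTwo.BN.x_ne_one (by norm_num))
      · have e4 : el (tA b) 7 8 = tA b 3 := el_two_pow (t := tA b) (n := 7) (i := 3) (by norm_num)
        rw [e4] at e1
        have e5 := congrArg f e1
        rw [map_mul, map_mul, map_inv, D.mp 44 (by norm_num) (by norm_num), mul_inv_eq_iff_eq_mul] at e5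
        exact e5
    · rcases p6_two_pow v' hv' k hk h3 e2 with rfl | rfl
      · rw [el_two_pow hk] at e1
        have e5 := congrArg f e1
        rw [map_mul, map_mul, map_inv, D.mp (41 + k) (by omega) (by omega), mul_inv_eq_iff_eq_mul] at e5
        exact e5
      · exfalso
        rw [D.eA.el_xor le_rfl, el_two_pow hk, show (8 : ℕ) = 2 ^ 3 by norm_num, el_two_pow (by norm_num)] at e1
        have e5 := congrArg f e1
        rw [map_mul, map_mul, map_inv, map_mul, D.mp (41 + k) (by omega) (by omega),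
          D.mp 44 (by norm_num) (by norm_num)] at e5
        have e6 := Cfsg.Agent.FourTwo.ClassSep.sep (w := [41 + k]) (w' := [41 + k, 44]) (by simp; omega)
          (by simp; omega) (sepk ⟨k, hk⟩ (by intro h; apply h3; exact congrArg Fin.val h)) (f g)
        apply e6
        rw [Cfsg.Agent.FourTwo.Base.wd_one, e5, Cfsg.Agent.FourTwo.Base.wd_cons, Cfsg.Agent.FourTwo.Base.wd_one]
  obtain ⟨a, ha, e⟩ := Cfsg.Agent.FourTwo.CentC.centW (g := ((f g : LL) : GL chevF4.Idx (ZMod 2))) (f g).2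
    (fun k hk => by
      have := congrArg (fun y : LL => (y : GL chevF4.Idx (ZMod 2))) (hc k hk)
      exact this)
  have h9 := Cfsg.Agent.FourTwo.CentW.E_mem_NN a 9
  rw [← e] at h9
  have key : ∀ y ∈ Cfsg.Agent.FourTwo.CentW.NN 9, ∃ u ∈ RG w33, (u : GL chevF4.Idx (ZMod 2)) = y := by
    have : Cfsg.Agent.FourTwo.CentW.NN 9 ≤ (RG w33).map (chevF4.group (ZMod 2)).subtype := by
      unfold Cfsg.Agent.FourTwo.CentW.NN
      rw [Subgroup.closure_le]
      rintro _ ⟨i, h1, h2, rfl⟩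
      exact ⟨x (24 + i), x_mem_RG (by omega) (by unfold w33; rw [decide_eq_true_eq]; omega), rfl⟩
    intro y hy
    obtain ⟨u, hu, e⟩ := this hy
    exact ⟨u, hu, e⟩
  obtain ⟨u, hu, e'⟩ := key _ h9
  have : u = f g := Subtype.ext e'
  rwa [← this]

end

end

end Cfsg.Agent.H374.QS.FF
end

-- part: H374/QS/FF/ParB
section
/-!
# 2.F₄(2): both lifts of the elements of `P_s ∖ Q_s` are commutators (helper374)

`P / A = 2^{1+8}.Sp₆(2)`: `es` (the structure `ES` of `H6.ORE.Extra`), `PD.isComm` : every `g : P` with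
`f g ∉ Q_s` is a commutator.
-/

set_option autoImplicit false

namespace Cfsg.Agent.H374.QS.FF

open Cfsg.Lie Cfsg.Agent.H612.Ore Cfsg.Agent.H6.ORE
open Cfsg.Agent.FourTwo.Comm Cfsg.Agent.FourTwo.Par
open Cfsg.Agent.FourTwo.Cent (psP Ps)
open Cfsg.Agent.FourTwo.Base (LL x)
open Cfsg.Agent.SporRec.TwoSp6.Sp (V S om tr act enc exists_enc)

variable {P : Type*} [Group P] {b : ℕ → P} {z : P} {f : P →* LL}

/-- the preimage of `Q_s` -/
def QQ (f : P →* LL) : Subgroup P := (RG w33).comap f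

/-- the preimage of `W_s` -/
def ZZ (f : P →* LL) : Subgroup P := (RG w41).comap f

/-- the complement of `⟨z⟩` in the preimage of `W_s` -/
def AA (b : ℕ → P) : Subgroup P := Subgroup.closure {g | ∃ k, k < 7 ∧ g = tA b k}

private noncomputable def _root_.Cfsg.Agent.KO4ba0632.oLe.{ku} (α : Sort ku) (a b : Nat) (f t : α) : α := @Decidable.rec (@LE.le Nat instLENat a b) (fun _ => α) (fun _ => f) (fun _ => t) (Nat.decLe a b)
private noncomputable def _root_.Cfsg.Agent.KO4ba0632.k29.{ku} (α : Sort ku) (a b : Nat) (f t : α) : α := @Bool.rec (fun _ => α) f t (Nat.ble a b)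
private theorem _root_.Cfsg.Agent.KO4ba0632.e29.{ku} : @_root_.Cfsg.Agent.KO4ba0632.oLe.{ku} = @_root_.Cfsg.Agent.KO4ba0632.k29.{ku} := funext fun α => funext fun a => funext fun b => funext fun f => funext fun t => by delta _root_.Cfsg.Agent.KO4ba0632.oLe _root_.Cfsg.Agent.KO4ba0632.k29; cases h : Nat.ble a b <;> cases Nat.decLe a b <;> rename_i g <;> first | rfl | exact absurd (h.symm.trans (Nat.ble_eq_true_of_le g)) Bool.false_ne_true | exact absurd (Nat.le_of_ble_eq_true h) g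
private noncomputable def _root_.Cfsg.Agent.KO4ba0632.k32 : (by first | exact type_of% @Cfsg.Agent.ChevalleyStructure.TwF4.Tables.nth | exact Unit : Sort _) := by first | (refine @Subtype.val _ (fun g => @Cfsg.Agent.ChevalleyStructure.TwF4.Tables.nth = @g) (@Subtype.mk _ _ (@(fun x0 x1 x2 => @List.rec.{1, 0} (@List.{0} @x0) @(fun x3 => ℕ → @List.{0} @x0) @(fun x3 => []) @(fun x3 x4 x5 x6 => @Nat.rec.{1} @(fun x7 => @List.{0} @x0) @x3 @(fun x7 x8 => @x5 @x7) @x6) @x1 @x2)) ?_); funext a0 a1 a2; refine (congrFun (_root_.Cfsg.Agent.KO4ba0632.e9 (fun a1 a2 => @Cfsg.Agent.ChevalleyStructure.TwF4.Tables.nth a0 a1 a2) ?_ (fun c0 c1 => ?_) a1) a2 :) <;> [(funext b0; (rfl')); (funext b0; (cases b0 with | @zero  => (rfl') | @succ b0_0 => (rfl')))]) | exact @Cfsg.Agent.ChevalleyStructure.TwF4.Tables.nth | exact ()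
private theorem _root_.Cfsg.Agent.KO4ba0632.e32 : (by first | exact @Cfsg.Agent.ChevalleyStructure.TwF4.Tables.nth = @_root_.Cfsg.Agent.KO4ba0632.k32 | exact True : Prop) := by first | (delta _root_.Cfsg.Agent.KO4ba0632.k32; exact @Subtype.property _ (fun g => @Cfsg.Agent.ChevalleyStructure.TwF4.Tables.nth = @g) _) | rfl | trivial
private noncomputable def _root_.Cfsg.Agent.KO4ba0632.k34 : (by first | exact type_of% @Cfsg.Agent.ChevalleyStructure.TwF4.Rel.nth2 | exact Unit : Sort _) := by first | (refine @Subtype.val _ (fun g => @Cfsg.Agent.ChevalleyStructure.TwF4.Rel.nth2 = @g) (@Subtype.mk _ _ (@(fun x0 x1 x2 => @List.rec.{1, 0} (@List.{0} (@List.{0} @x0)) @(fun x3 => ℕ → @List.{0} (@List.{0} @x0)) @(fun x3 => []) @(fun x3 x4 x5 x6 => @Nat.rec.{1} @(fun x7 => @List.{0} (@List.{0} @x0)) @x3 @(fun x7 x8 => @x5 @x7) @x6) @x1 @x2)) ?_); funext a0 a1 a2; refine (congrFun (_root_.Cfsg.Agent.KO4ba0632.e9 (fun a1 a2 => @Cfsg.Agent.ChevalleyStructure.TwF4.Rel.nth2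 a0 a1 a2) ?_ (fun c0 c1 => ?_) a1) a2 :) <;> [(funext b0; (rfl')); (funext b0; (cases b0 with | @zero  => (rfl') | @succ b0_0 => (rfl')))]) | exact @Cfsg.Agent.ChevalleyStructure.TwF4.Rel.nth2 | exact ()
private theorem _root_.Cfsg.Agent.KO4ba0632.e34 : (by first | exact @Cfsg.Agent.ChevalleyStructure.TwF4.Rel.nth2 = @_root_.Cfsg.Agent.KO4ba0632.k34 | exact True : Prop) := by first | (delta _root_.Cfsg.Agent.KO4ba0632.k34; exact @Subtype.property _ (fun g => @Cfsg.Agent.ChevalleyStructure.TwF4.Rel.nth2 = @g) _) | rfl | trivial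
private noncomputable def _root_.Cfsg.Agent.KO4ba0632.k65 : (by first | exact type_of% @Cfsg.Agent.FourTwo.Par.normB | exact Unit : Sort _) := by first | (refine @Subtype.val _ (fun g => @Cfsg.Agent.FourTwo.Par.normB = @g) (@Subtype.mk _ _ (@(fun x0 x1 => @Cfsg.Agent.KO4ba0632.k10.{0} _ (@Cfsg.Agent.KO4ba0632.k12 (nat_lit 48) []) @(fun x2 => @Bool.rec.{1} @(fun x3 => @Bool) (@Cfsg.Agent.KO4ba0632.k10.{0} _ (@Cfsg.Agent.KO4ba0632.k12 (nat_lit 48) []) @(fun x3 => @Bool.rec.{1} @(fun x4 => @Bool) (@Bool.rec.{1} @(fun x4 => @Bool) @Bool.false (@Cfsg.Agent.KO4ba0632.k10.{0} _ (@Cfsg.Agent.KO4ba0632.k32 _ (@Cfsg.Agent.KO4ba0632.k34 _ @Cfsg.Agent.FourTwo.Comm.cmgT @x2) @x3) @x1) (@Bool.rec.{1} @(fun x4 => @Bool) @Bool.true @Bool.false (@Cfsg.Agent.KO4ba0632.k6.{1} @Bool (@Nat.add @x2 @x3) (nat_lit 47) @Bool.false @Bool.true))) @Bool.true (@Bool.rec.{1} @(fun x4 => @Bool) (@Cfsg.Agent.KO4ba0632.k6.{1} @Bool @x2 @x3 @Bool.false @Bool.true) @Bool.true (@Bool.rec.{1}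 @(fun x4 => @Bool) @Bool.true @Bool.false (@x1 @x3))))) @Bool.true (@Bool.rec.{1} @(fun x3 => @Bool) @Bool.true @Bool.false (@x0 @x2))))) ?_); rewrite [← Cfsg.Agent.KO4ba0632.e6.{1}, ← Cfsg.Agent.KO4ba0632.e34, ← Cfsg.Agent.KO4ba0632.e32, ← Cfsg.Agent.KO4ba0632.e12, ← Cfsg.Agent.KO4ba0632.e10.{0}]; (try delta Cfsg.Agent.FourTwo.Par.normB Cfsg.Agent.FourTwo.Par.cmAll Cfsg.Agent.FourTwo.Comm.cmg); (try generalize @Cfsg.Agent.ChevalleyStructure.TwF4.Tables.nth = g0); (try generalize @Cfsg.Agent.ChevalleyStructure.TwF4.Rel.nth2 = g1); (try generalize @Cfsg.Agent.FourTwo.Comm.cmgT = g2); rfl') | exact @Cfsg.Agent.FourTwo.Par.normB | exact ()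
private theorem _root_.Cfsg.Agent.KO4ba0632.e65 : (by first | exact @Cfsg.Agent.FourTwo.Par.normB = @_root_.Cfsg.Agent.KO4ba0632.k65 | exact True : Prop) := by first | (delta _root_.Cfsg.Agent.KO4ba0632.k65; exact @Subtype.property _ (fun g => @Cfsg.Agent.FourTwo.Par.normB = @g) _) | rfl | trivial
private noncomputable def _root_.Cfsg.Agent.KO4ba0632.k66 : (by first | exact type_of% @Cfsg.Agent.FourTwo.Cent.psP | exact Unit : Sort _) := by first | (refine @Subtype.val _ (fun g => @Cfsg.Agent.FourTwo.Cent.psP = @g) (@Subtype.mk _ _ (@(fun x0 => @Cfsg.Agent.KO4ba0632.k29.{1} @Bool (nat_lit 15) @x0 @Bool.false @Bool.true)) ?_); rewrite [← Cfsg.Agent.KO4ba0632.e29.{1}]; rfl') | exact @Cfsg.Agent.FourTwo.Cent.psP | exact ()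
private theorem _root_.Cfsg.Agent.KO4ba0632.e66 : (by first | exact @Cfsg.Agent.FourTwo.Cent.psP = @_root_.Cfsg.Agent.KO4ba0632.k66 | exact True : Prop) := by first | (delta _root_.Cfsg.Agent.KO4ba0632.k66; exact @Subtype.property _ (fun g => @Cfsg.Agent.FourTwo.Cent.psP = @g) _) | rfl | trivial
private noncomputable def _root_.Cfsg.Agent.KO4ba0632.k67 : (by first | exact type_of% @Cfsg.Agent.H374.QS.FF.w33 | exact Unit : Sort _) := by first | (refine @Subtype.val _ (fun g => @Cfsg.Agent.H374.QS.FF.w33 = @g) (@Subtype.mk _ _ (@(fun x0 => @Cfsg.Agent.KO4ba0632.k29.{1} @Bool (nat_lit 33) @x0 @Bool.false @Bool.true)) ?_); rewrite [← Cfsg.Agent.KO4ba0632.e29.{1}]; rfl') | exact @Cfsg.Agent.H374.QS.FF.w33 | exact ()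
private theorem _root_.Cfsg.Agent.KO4ba0632.e67 : (by first | exact @Cfsg.Agent.H374.QS.FF.w33 = @_root_.Cfsg.Agent.KO4ba0632.k67 | exact True : Prop) := by first | (delta _root_.Cfsg.Agent.KO4ba0632.k67; exact @Subtype.property _ (fun g => @Cfsg.Agent.H374.QS.FF.w33 = @g) _) | rfl | trivial

theorem norm33 : normB psP w33 = true := by (first | (rewrite [Cfsg.Agent.KO4ba0632.e65, Cfsg.Agent.KO4ba0632.e66, Cfsg.Agent.KO4ba0632.e67]; decide +kernel) | decide +kernel)
private noncomputable def _root_.Cfsg.Agent.KO4ba0632.k68 : (by first | exact type_of% @Cfsg.Agent.H374.QS.FF.w41 | exact Unit : Sort _) := by first | (refine @Subtype.val _ (fun g => @Cfsg.Agent.H374.QS.FF.w41 = @g) (@Subtype.mk _ _ (@(fun x0 => @Cfsg.Agent.KO4ba0632.k29.{1} @Bool (nat_lit 41) @x0 @Bool.false @Bool.true)) ?_); rewrite [← Cfsg.Agent.KO4ba0632.e29.{1}]; rfl') | exact @Cfsg.Agent.H374.QS.FF.w41 | exact ()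
private theorem _root_.Cfsg.Agent.KO4ba0632.e68 : (by first | exact @Cfsg.Agent.H374.QS.FF.w41 = @_root_.Cfsg.Agent.KO4ba0632.k68 | exact True : Prop) := by first | (delta _root_.Cfsg.Agent.KO4ba0632.k68; exact @Subtype.property _ (fun g => @Cfsg.Agent.H374.QS.FF.w41 = @g) _) | rfl | trivial

theorem norm41 : normB psP w41 = true := by (first | (rewrite [Cfsg.Agent.KO4ba0632.e65, Cfsg.Agent.KO4ba0632.e66, Cfsg.Agent.KO4ba0632.e68]; decide +kernel) | decide +kernel)

section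

variable (D : PD b z f)

include D

theorem PD.fP (g : P) : f g ∈ RG psP := by
  have h1 : (⊤ : Subgroup P) ≤ (RG psP).comap f := by
    rw [← D.gen, Subgroup.closure_le]
    rintro g (⟨r, h1, h2, rfl⟩ | hg)
    · show f (b r) ∈ RG psP
      rw [D.mp r h1 h2]
      exact x_mem_RG h2 (by unfold psP; simpa using h1)
    · rw [Set.mem_singleton_iff] at hg
      subst hg
      show f _ ∈ RG psP
      rw [D.fz]
      exact one_mem _
  exact h1 (Subgroup.mem_top g)

theorem PD.normQ : (QQ f).Normal where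
  conj_mem q hq g := by
    show f (g * q * g⁻¹) ∈ RG w33
    rw [map_mul, map_mul, map_inv]
    exact conj_mem norm33 (D.fP g) hq

theorem PD.normZ : (ZZ f).Normal where
  conj_mem q hq g := by
    show f (g * q * g⁻¹) ∈ RG w41
    rw [map_mul, map_mul, map_inv]
    exact conj_mem norm41 (D.fP g) hq

theorem PD.mem_AA {g : P} (h : g ∈ AA b) : ∃ v, v < 128 ∧ g = el (tA b) 7 v := by
  unfold AA at h
  induction h using Subgroup.closure_induction with
  | mem g hg =>
    obtain ⟨k, hk, rfl⟩ := hg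
    exact ⟨2 ^ k, two_pow_lt (n := 7) hk, (el_two_pow hk).symm⟩
  | one => exact ⟨0, by norm_num, (el_zero _).symm⟩
  | mul g h _ _ h1 h2 =>
    obtain ⟨u, hu, rfl⟩ := h1
    obtain ⟨v, hv, rfl⟩ := h2
    exact ⟨u ^^^ v, Nat.xor_lt_two_pow (n := 7) hu hv, (D.eA.el_xor le_rfl u v).symm⟩
  | inv g _ h =>
    obtain ⟨u, hu, rfl⟩ := h
    exact ⟨u, hu, D.eA.el_inv u⟩

omit D in
theorem el_mem_AA (v : ℕ) : el (tA b) 7 v ∈ AA b :=
  el_mem (fun i hi => show tA b i ∈ AA b from Subgroup.subset_closure ⟨i, hi, rfl⟩) v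

theorem PD.normA : (AA b).Normal where
  conj_mem q hq g := by
    obtain ⟨v, hv, rfl⟩ := D.mem_AA hq
    obtain ⟨v', -, e⟩ := D.conjA g hv
    rw [e]
    exact el_mem_AA v'

theorem PD.commA : ∀ x ∈ AA b, ∀ y ∈ AA b, x * y = y * x := by
  intro x hx y hy
  obtain ⟨u, -, rfl⟩ := D.mem_AA hx
  obtain ⟨v, -, rfl⟩ := D.mem_AA hy
  exact D.eA.el_comm u v

theorem PD.z_notMem : z ∉ AA b := by
  intro h
  obtain ⟨v, -, e⟩ := D.mem_AA h
  exact D.el_ne_z e.symm

theorem PD.fAA : ∀ g ∈ AA b, g ∈ ZZ f := by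
  have : AA b ≤ ZZ f := by
    unfold AA
    rw [Subgroup.closure_le]
    rintro _ ⟨k, hk, rfl⟩
    show f (b (41 + k)) ∈ RG w41
    rw [D.mp _ (by omega) (by omega)]
    exact x_mem_RG (by omega) (by unfold w41; rw [decide_eq_true_eq]; omega)
  exact fun g hg => this hg

theorem PD.z_mem (w : ℕ → Bool) : f z ∈ RG w := by rw [D.fz]; exact one_mem _

/-- the preimage of `W_s` is `A × ⟨z⟩` -/
theorem PD.mem_ZZ {g : P} (h : g ∈ ZZ f) : ∃ a ∈ AA b, g = a ∨ g = a * z := by
  have h1 : RG w41 ≤ (AA b).map f := RG_le fun r hr hw => by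
    unfold w41 at hw
    rw [decide_eq_true_eq] at hw
    refine ⟨b r, Subgroup.subset_closure ⟨r - 41, by omega, ?_⟩, D.mp r (by omega) hr⟩
    show b r = b (41 + (r - 41))
    rw [show 41 + (r - 41) = r by omega]
  obtain ⟨a, ha, e⟩ := h1 h
  have h2 : f (a⁻¹ * g) = 1 := by rw [map_mul, map_inv, e, inv_mul_cancel]
  refine ⟨a, ha, ?_⟩
  rcases D.ker _ h2 with h3 | h3
  · left; exact (inv_mul_eq_one.1 h3).symm
  · right; rw [← h3]; group

/-- the generators of the preimage of `Q_s` -/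
theorem PD.mem_QQ {g : P} (h : g ∈ QQ f) :
    ∃ a ∈ Subgroup.closure {g | ∃ r, 33 ≤ r ∧ r < 48 ∧ g = b r}, g = a ∨ g = a * z := by
  have h1 : RG w33 ≤ (Subgroup.closure {g | ∃ r, 33 ≤ r ∧ r < 48 ∧ g = b r}).map f := RG_le fun r hr hw => by
    unfold w33 at hw
    rw [decide_eq_true_eq] at hw
    exact ⟨b r, Subgroup.subset_closure ⟨r, hw, hr, rfl⟩, D.mp r (by omega) hr⟩
  obtain ⟨a, ha, e⟩ := h1 h
  have h2 : f (a⁻¹ * g) = 1 := by rw [map_mul, map_inv, e, inv_mul_cancel]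
  refine ⟨a, ha, ?_⟩
  rcases D.ker _ h2 with h3 | h3
  · left; exact (inv_mul_eq_one.1 h3).symm
  · right; rw [← h3]; group

theorem PD.b_mem_QQ {r : ℕ} (h1 : 33 ≤ r) (h2 : r < 48) : b r ∈ QQ f := by
  show f (b r) ∈ RG w33
  rw [D.mp r (by omega) h2]
  exact x_mem_RG h2 (by unfold w33; simpa using h1)

theorem PD.b_mem_ZZ {r : ℕ} (h1 : 41 ≤ r) (h2 : r < 48) : b r ∈ ZZ f := by
  show f (b r) ∈ RG w41
  rw [D.mp r (by omega) h2]
  exact x_mem_RG h2 (by unfold w41; simpa using h1)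

end

/-- the basis of `Q / Z` -/
abbrev tV (b : ℕ → P) (k : ℕ) : P := b (33 + k)

/-- the central element `[b 33, b 40]` -/
def w44 (b : ℕ → P) (z : P) : P := z * b 44

section

variable (D : PD b z f)

include D

theorem PD.w44_cen {r : ℕ} (h1 : 33 ≤ r) (h2 : r < 48) : b r * w44 b z = w44 b z * b r := by
  unfold w44
  rw [← mul_assoc, D.zc, mul_assoc, D.commAQ h1 h2 (by norm_num) (by norm_num), mul_assoc]

theorem PD.w44_ne : w44 b z ≠ 1 := by
  intro h
  have h1 := congrArg f h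
  unfold w44 at h1
  rw [map_mul, D.fz, one_mul, map_one, D.mp 44 (by norm_num) (by norm_num)] at h1
  exact Cfsg.Agent.FourTwo.BN.x_ne_one (by norm_num) h1

theorem PD.w44_notMem : w44 b z ∉ AA b := by
  intro h
  unfold w44 at h
  have h1 : b 44 ∈ AA b := Subgroup.subset_closure ⟨3, by norm_num, rfl⟩
  exact D.z_notMem ((Subgroup.mul_mem_cancel_right _ h1).1 h)

theorem PD.cj33 {i j : ℕ} (hi : i < 8) (hj : j < 8) :
    tV b i * tV b j * (tV b i)⁻¹ = tV b j * (if i = 7 - j then w44 b z else 1) := by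
  show b (33 + i) * b (33 + j) * (b (33 + i))⁻¹ = _
  by_cases e : i = j
  · subst e
    rw [if_neg (by omega), mul_inv_cancel_right, mul_one]
  · have h := t3_of (show 33 ≤ 33 + i by omega) (show 33 + i < 41 by omega) (show 33 ≤ 33 + j by omega)
      (show 33 + j < 41 by omega)
    unfold t3 at h
    rw [Bool.or_eq_true, beq_iff_eq] at h
    rcases h with h | h
    · omega
    · rw [D.cj (33 + i) (by omega) (by omega) (33 + j) (by omega) (by omega) (by omega) (by omega)]
      by_cases e2 : 33 + i + (33 + j) = 73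
      · rw [if_pos e2, Bool.and_eq_true, beq_iff_eq] at h
        rw [if_pos (by omega), h.1, h.2, sz_true, wb_cons, wb_cons, wb_nil, mul_one]
        unfold w44
        show z * (b (33 + j) * b 44) = b (33 + j) * (z * b 44)
        rw [← mul_assoc, ← D.zc, mul_assoc]
      · rw [if_neg e2, Bool.and_eq_true, beq_iff_eq, Bool.not_eq_true'] at h
        rw [if_neg (by omega), h.1, h.2, sz_false, wb_cons, wb_nil, one_mul]

/-- conjugation by products -/
theorem PD.cjel (h : ℕ) : ∀ n, n ≤ 8 → ∀ j, j < 8 → el (tV b) n h * tV b j * (el (tV b) n h)⁻¹ =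
    tV b j * (if 7 - j < n ∧ h.testBit (7 - j) = true then w44 b z else 1) := by
  intro n
  induction n with
  | zero =>
    intro _ j _
    rw [el, if_neg (by omega), one_mul, inv_one]
  | succ n ih =>
    intro hn j hj
    have hw : ∀ m, m ≤ n → el (tV b) m h * w44 b z = w44 b z * el (tV b) m h := by
      intro m
      induction m with
      | zero => intro _; rw [el, one_mul, mul_one]
      | succ m ihm =>
        intro hm
        rw [el, mul_assoc]
        split_ifs
        · rw [show tV b m = b (33 + m) from rfl, D.w44_cen (by omega) (by omega), ← mul_assoc, ihm (by omega), mul_assoc]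
        · rw [one_mul, ihm (by omega), mul_one]
    rw [el]
    by_cases hb : h.testBit n = true
    · rw [if_pos hb]
      have e : el (tV b) n h * tV b n * tV b j * (el (tV b) n h * tV b n)⁻¹ =
          el (tV b) n h * (tV b n * tV b j * (tV b n)⁻¹) * (el (tV b) n h)⁻¹ := by group
      rw [e, D.cj33 (by omega) hj]
      by_cases hnj : n = 7 - j
      · rw [if_pos hnj, if_pos ⟨by omega, by rw [← hnj]; exact hb⟩]
        have e2 : el (tV b) n h * (tV b j * w44 b z) * (el (tV b) n h)⁻¹ =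
            (el (tV b) n h * tV b j * (el (tV b) n h)⁻¹) * (el (tV b) n h * w44 b z * (el (tV b) n h)⁻¹) := by group
        rw [e2, ih (by omega) j hj, if_neg (by omega), hw n le_rfl, mul_inv_cancel_right, mul_one]
      · rw [if_neg hnj, mul_one, ih (by omega) j hj]
        have : (7 - j < n ∧ h.testBit (7 - j) = true) ↔ (7 - j < n + 1 ∧ h.testBit (7 - j) = true) := by
          constructor
          · rintro ⟨h1, h2⟩; exact ⟨by omega, h2⟩
          · rintro ⟨h1, h2⟩; exact ⟨by omega, h2⟩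
        simp only [this]
    · rw [if_neg hb, mul_one, ih (by omega) j hj]
      have : (7 - j < n ∧ h.testBit (7 - j) = true) ↔ (7 - j < n + 1 ∧ h.testBit (7 - j) = true) := by
        constructor
        · rintro ⟨h1, h2⟩; exact ⟨by omega, h2⟩
        · rintro ⟨h1, h2⟩
          refine ⟨?_, h2⟩
          by_contra h3
          have : n = 7 - j := by omega
          rw [← this] at h2
          exact hb h2
      simp only [this]

theorem PD.el_mem_QQ (h : ℕ) : el (tV b) 8 h ∈ QQ f := el_mem (fun i hi => D.b_mem_QQ (by omega) (by omega)) h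

/-- elements of `A` centralise the `b r`, `33 ≤ r` -/
theorem PD.AA_cen {a : P} (ha : a ∈ AA b) {r : ℕ} (h1 : 33 ≤ r) (h2 : r < 48) : a * b r = b r * a := by
  unfold AA at ha
  induction ha using Subgroup.closure_induction with
  | mem g hg =>
    obtain ⟨k, hk, rfl⟩ := hg
    exact (D.commAQ h1 h2 (by omega) (by omega)).symm
  | one => rw [one_mul, mul_one]
  | mul g h _ _ e1 e2 => rw [mul_assoc, e2, ← mul_assoc, e1, mul_assoc]
  | inv g _ e =>
    calc g⁻¹ * b r = g⁻¹ * (b r * g) * g⁻¹ := by group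
      _ = g⁻¹ * (g * b r) * g⁻¹ := by rw [e]
      _ = b r * g⁻¹ := by group

/-- elements of `A` and `z` centralise the `b r`, `33 ≤ r` -/
theorem PD.ZZ_cen {g : P} (hg : g ∈ ZZ f) {r : ℕ} (h1 : 33 ≤ r) (h2 : r < 48) : g * b r = b r * g := by
  obtain ⟨a, ha, h⟩ := D.mem_ZZ hg
  have h3 : a * b r = b r * a := D.AA_cen ha h1 h2
  rcases h with rfl | rfl
  · exact h3
  · rw [mul_assoc, ← D.zc, ← mul_assoc, h3, mul_assoc]

end

section quot

variable (D : PD b z f) [hZ : (ZZ f).Normal]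

/-- the quotient by the preimage of `W_s` -/
abbrev mk2 (f : P →* LL) [(ZZ f).Normal] : P →* P ⧸ ZZ f := QuotientGroup.mk' (ZZ f)

/-- the basis of `Q / Z` -/
abbrev t8 (b : ℕ → P) (f : P →* LL) [(ZZ f).Normal] (k : ℕ) : P ⧸ ZZ f := mk2 f (tV b k)

theorem mk2_one {g : P} : mk2 f g = 1 ↔ g ∈ ZZ f := QuotientGroup.eq_one_iff g

theorem mk2_el (n h : ℕ) : mk2 f (el (tV b) n h) = el (t8 b f) n h := FF.map_el _ n h

include D

theorem PD.eV : EAb (t8 b f) 8 where
  sq i hi := by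
    show mk2 f (b (33 + i)) * mk2 f (b (33 + i)) = 1
    rw [← map_mul, D.sq _ (by omega) (by omega), map_one]
  cm i hi j hj := by
    have h := congrArg (mk2 f) (D.cj33 hi hj)
    have h1 : mk2 f (if i = 7 - j then w44 b z else 1) = 1 := by
      rw [mk2_one]
      split_ifs
      · exact mul_mem (D.z_mem w41) (D.b_mem_ZZ (by norm_num) (by norm_num))
      · exact one_mem _
    rw [map_mul, map_mul, map_inv, map_mul, h1, mul_one, mul_inv_eq_iff_eq_mul] at h
    exact h

theorem PD.wb_codeV {w : List ℕ} (h : ∀ c ∈ w, 33 ≤ c ∧ c < 48) (e : Bool) :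
    mk2 f (sz z e * wb b w) = el (t8 b f) 8 (cdw 33 (w.filter fun c => decide (c < 41))) := by
  have h0 : mk2 f (sz z e) = 1 := by
    rw [mk2_one]
    cases e
    · rw [sz_false]; exact one_mem _
    · rw [sz_true]; exact D.z_mem w41
  rw [map_mul, h0, one_mul]
  induction w with
  | nil =>
    rw [wb_nil, map_one]
    exact (el_zero _).symm
  | cons c w ih =>
    have hc := h c List.mem_cons_self
    rw [wb_cons, map_mul, ih fun d hd => h d (List.mem_cons_of_mem _ hd)]
    by_cases h41 : c < 41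
    · rw [List.filter_cons_of_pos (by simpa using h41)]
      have e : cdw 33 (c :: w.filter fun c => decide (c < 41)) =
          2 ^ (c - 33) ^^^ cdw 33 (w.filter fun c => decide (c < 41)) := rfl
      rw [e, D.eV.el_xor le_rfl, el_two_pow (show c - 33 < 8 by omega)]
      show mk2 f (b c) * _ = mk2 f (b (33 + (c - 33))) * _
      rw [show 33 + (c - 33) = c by omega]
    · rw [List.filter_cons_of_neg (by simpa using h41)]
      have e : mk2 f (b c) = 1 := by
        rw [mk2_one]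
        exact D.b_mem_ZZ (by omega) hc.2
      rw [e, one_mul]

theorem PD.actV {r : ℕ} (h1 : 15 ≤ r) (h2 : r < 33) : ActsC (t8 b f) 8 (mk2 f (b r)) (cVs.getD (r - 15) 0) := by
  intro i hi
  have h := t4_of h1 h2 (show 33 ≤ 33 + i by omega) (show 33 + i < 41 by omega)
  unfold t4 at h
  rw [Bool.and_eq_true, List.all_eq_true, beq_iff_eq, show 33 + i - 33 = i by omega] at h
  rw [← h.2]
  show mk2 f (b r) * mk2 f (b (33 + i)) * (mk2 f (b r))⁻¹ = _
  rw [← map_inv, ← map_mul, ← map_mul, D.cj r h1 (by omega) (33 + i) (by omega) (by omega) (by omega) (by omega)]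
  apply D.wb_codeV
  intro c hc
  rcases List.mem_cons.1 hc with rfl | hc
  · omega
  · have := h.1 c hc
    simpa using this

theorem PD.inj8 {u v : ℕ} (hu : u < 256) (hv : v < 256) (h : el (t8 b f) 8 u = el (t8 b f) 8 v) : u = v := by
  have h1 : el (t8 b f) 8 (u ^^^ v) = 1 := by rw [D.eV.el_xor le_rfl, h, D.eV.el_sq]
  rw [← mk2_el, mk2_one] at h1
  have h2 : u ^^^ v = 0 := by
    apply eq_zero_of_bits (n := 8) (Nat.xor_lt_two_pow (n := 8) hu hv)
    intro k hk
    have h3 := D.cjel (u ^^^ v) 8 le_rfl (7 - k) (by omega)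
    rw [show 7 - (7 - k) = k by omega] at h3
    have h4 := D.ZZ_cen h1 (r := 33 + (7 - k)) (by omega) (by omega)
    rw [show tV b (7 - k) = b (33 + (7 - k)) from rfl, h4, mul_inv_cancel_right] at h3
    by_contra h5
    rw [Bool.not_eq_false] at h5
    rw [if_pos ⟨by omega, h5⟩] at h3
    exact D.w44_ne (by simpa using h3.symm)
  exact Nat.xor_eq_zero_iff.1 h2

/-- the elements of `Q` -/
def Pq (b : ℕ → P) (z : P) (f : P →* LL) [(ZZ f).Normal] (q : P) (h : ℕ) : Prop :=
  mk2 f q = el (t8 b f) 8 h ∧ ∀ j, j < 8 → q * tV b j * q⁻¹ = tV b j * (if h.testBit (7 - j) = true then w44 b z else 1)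

theorem PD.Pq_el (h : ℕ) : Pq b z f (el (tV b) 8 h) h := by
  refine ⟨mk2_el 8 h, fun j hj => ?_⟩
  rw [D.cjel h 8 le_rfl j hj]
  have : (7 - j < 8 ∧ h.testBit (7 - j) = true) ↔ h.testBit (7 - j) = true :=
    ⟨fun h => h.2, fun h => ⟨by omega, h⟩⟩
  simp only [this]

theorem PD.Pq_ZZ {g q : P} {h : ℕ} (hg : g ∈ ZZ f) (hq : Pq b z f q h) : Pq b z f (g * q) h := by
  refine ⟨by rw [map_mul, mk2_one.2 hg, one_mul]; exact hq.1, fun j hj => ?_⟩
  have e : g * q * tV b j * (g * q)⁻¹ = g * (q * tV b j * q⁻¹) * g⁻¹ := by group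
  rw [e, hq.2 j hj]
  have h1 := D.ZZ_cen hg (r := 33 + j) (by omega) (by omega)
  split_ifs
  · have h2 : g * w44 b z = w44 b z * g := by
      unfold w44
      rw [← mul_assoc, D.zc, mul_assoc, D.ZZ_cen hg (by norm_num) (by norm_num), mul_assoc]
    rw [← mul_assoc, show tV b j = b (33 + j) from rfl, h1, mul_assoc (b (33 + j)), h2, ← mul_assoc,
      mul_inv_cancel_right]
  · rw [mul_one, show tV b j = b (33 + j) from rfl, h1, mul_inv_cancel_right]

/-- every element of `Q` has a code -/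
theorem PD.exists_code {q : P} (hq : q ∈ QQ f) : ∃ h, h < 256 ∧ Pq b z f q h := by
  have key : ∀ a ∈ Subgroup.closure {g | ∃ r, 33 ≤ r ∧ r < 48 ∧ g = b r}, ∃ h, mk2 f a = el (t8 b f) 8 h := by
    intro a ha
    induction ha using Subgroup.closure_induction with
    | mem g hg =>
      obtain ⟨r, h1, h2, rfl⟩ := hg
      by_cases h41 : r < 41
      · refine ⟨2 ^ (r - 33), ?_⟩
        rw [el_two_pow (show r - 33 < 8 by omega)]
        show mk2 f (b r) = mk2 f (b (33 + (r - 33)))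
        rw [show 33 + (r - 33) = r by omega]
      · exact ⟨0, by rw [el_zero, mk2_one]; exact D.b_mem_ZZ (by omega) h2⟩
    | one => exact ⟨0, by rw [el_zero, map_one]⟩
    | mul g h _ _ h1 h2 =>
      obtain ⟨u, hu⟩ := h1
      obtain ⟨v, hv⟩ := h2
      exact ⟨u ^^^ v, by rw [map_mul, hu, hv, D.eV.el_xor le_rfl]⟩
    | inv g _ h =>
      obtain ⟨u, hu⟩ := h
      exact ⟨u, by rw [map_inv, hu, D.eV.el_inv]⟩
  have h1 : ∃ h, mk2 f q = el (t8 b f) 8 h := by
    obtain ⟨a, ha, e⟩ := D.mem_QQ hq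
    obtain ⟨h, hh⟩ := key a ha
    refine ⟨h, ?_⟩
    rcases e with rfl | rfl
    · exact hh
    · have : mk2 f z = 1 := mk2_one.2 (D.z_mem w41)
      rw [map_mul, this, mul_one, hh]
  obtain ⟨h, hh⟩ := h1
  refine ⟨h % 2 ^ 8, Nat.mod_lt _ (by norm_num), ?_⟩
  rw [el_mod, ← mk2_el] at hh
  have h2 : q * (el (tV b) 8 (h % 2 ^ 8))⁻¹ ∈ ZZ f := by
    rw [← mk2_one, map_mul, map_inv, hh, mul_inv_cancel]
  have h3 := D.Pq_ZZ h2 (D.Pq_el (h % 2 ^ 8))
  rwa [inv_mul_cancel_right] at h3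

omit D in
theorem mk2_comm_QQ (D : PD b z f) {q q' : P} (hq : q ∈ QQ f) (hq' : q' ∈ QQ f) :
    mk2 f q * mk2 f q' = mk2 f q' * mk2 f q := by
  obtain ⟨u, -, hu⟩ := D.exists_code hq
  obtain ⟨v, -, hv⟩ := D.exists_code hq'
  rw [hu.1, hv.1, D.eV.el_comm]

end quot

end Cfsg.Agent.H374.QS.FF
end

-- part: H374/QS/FF/ParC
section
/-!
# 2.F₄(2): the elements of `P_s ∖ Q_s` are commutators (helper374)

`PD.isComm` : every `g : P` with `f g ∉ Q_s` is a commutator.
-/

set_option autoImplicit false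

namespace Cfsg.Agent.H374.QS.FF

open Cfsg.Lie Cfsg.Agent.H612.Ore Cfsg.Agent.H6.ORE
open Cfsg.Agent.FourTwo.Comm Cfsg.Agent.FourTwo.Par
open Cfsg.Agent.FourTwo.Cent (psP Ps)
open Cfsg.Agent.FourTwo.Base (LL x)
open Cfsg.Agent.SporRec.TwoSp6.Sp (V S om tr act enc exists_enc)

universe u

variable {P : Type u} [Group P] {b : ℕ → P} {z : P} {f : P →* LL}

/-- the quotient by `A` -/
abbrev mk1 (b : ℕ → P) [(AA b).Normal] : P →* P ⧸ AA b := QuotientGroup.mk' (AA b)

/-- `Q / A` -/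
abbrev Q1 (b : ℕ → P) (f : P →* LL) [(AA b).Normal] : Subgroup (P ⧸ AA b) := (QQ f).map (mk1 b)

theorem mk1_one [(AA b).Normal] {g : P} : mk1 b g = 1 ↔ g ∈ AA b := QuotientGroup.eq_one_iff g

section

variable (D : PD b z f) [hA : (AA b).Normal] [hZ : (ZZ f).Normal]

include D

omit hZ in
theorem PD.mk1_ZZ {g : P} (h : g ∈ ZZ f) : mk1 b g = 1 ∨ mk1 b g = mk1 b z := by
  obtain ⟨a, ha, h⟩ := D.mem_ZZ h
  have h1 : mk1 b a = 1 := mk1_one.2 ha
  rcases h with rfl | rfl
  · left; exact h1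
  · right; rw [map_mul, h1, one_mul]

/-- equality modulo `ZZ` -/
theorem PD.mk1_of_mk2 {g h : P} (e : mk2 f g = mk2 f h) : mk1 b g = mk1 b h ∨ mk1 b g = mk1 b h * mk1 b z := by
  have h1 : h⁻¹ * g ∈ ZZ f := by
    rw [← mk2_one, map_mul, map_inv, e, inv_mul_cancel]
  rcases D.mk1_ZZ h1 with h2 | h2
  · left
    rw [map_mul, map_inv] at h2
    exact (inv_mul_eq_one.1 h2).symm
  · right
    rw [← h2, map_mul, map_inv, mul_inv_cancel_left]

theorem PD.mk2_of_mk1 {g h : P} (e : mk1 b g = mk1 b h ∨ mk1 b g = mk1 b h * mk1 b z) : mk2 f g = mk2 f h := by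
  have h1 : h⁻¹ * g ∈ ZZ f := by
    rcases e with e | e
    · apply D.fAA
      rw [← mk1_one, map_mul, map_inv, e, inv_mul_cancel]
    · have h2 : (h * z)⁻¹ * g ∈ AA b := by
        rw [← mk1_one, map_mul, map_inv, e, map_mul, inv_mul_cancel]
      have h3 : h⁻¹ * g = z * ((h * z)⁻¹ * g) := by group
      rw [h3]
      exact mul_mem (D.z_mem w41) (D.fAA _ h2)
  rw [← mk2_one, map_mul, map_inv, inv_mul_eq_one] at h1
  exact h1.symm

theorem PD.es : ES (Q1 b f) (mk1 b z) where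
  normal := D.normQ.map _ (QuotientGroup.mk'_surjective _)
  mem := ⟨z, D.z_mem w33, rfl⟩
  ne := fun h => D.z_notMem (mk1_one.1 h)
  sq := by rw [← map_mul, D.z2, map_one]
  central := by
    intro h
    obtain ⟨g, rfl⟩ := QuotientGroup.mk'_surjective (AA b) h
    rw [← map_mul, D.zc, map_mul]
  comm := by
    rintro _ ⟨q, hq, rfl⟩ _ ⟨q', hq', rfl⟩
    rw [← map_mul, ← map_mul]
    apply D.mk1_of_mk2
    rw [map_mul, map_mul]
    exact mk2_comm_QQ D hq hq'
  pow := by
    rintro _ ⟨q, hq, rfl⟩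
    rw [← map_mul]
    apply D.mk1_ZZ
    rw [← mk2_one, map_mul]
    obtain ⟨h, -, hh⟩ := D.exists_code hq
    rw [hh.1, D.eV.el_sq]
  nd := by
    rintro _ ⟨q, hq, rfl⟩ hc
    obtain ⟨h, hlt, hh⟩ := D.exists_code hq
    have h0 : h = 0 := by
      apply eq_zero_of_bits (n := 8) hlt
      intro k hk
      have h1 := hh.2 (7 - k) (by omega)
      rw [show 7 - (7 - k) = k by omega] at h1
      by_contra h5
      rw [Bool.not_eq_false] at h5
      rw [if_pos h5] at h1
      have h2 := congrArg (mk1 b) h1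
      have h3 := hc (mk1 b (tV b (7 - k))) ⟨_, D.b_mem_QQ (by omega) (by omega), rfl⟩
      rw [map_mul, map_mul, map_inv, h3, mul_inv_cancel_right, map_mul] at h2
      exact D.w44_notMem (mk1_one.1 (by simpa using h2.symm))
    subst h0
    have h1 := hh.1
    rw [el_zero] at h1
    exact D.mk1_ZZ (mk2_one.1 h1)

theorem PD.fpz {a c : P} {ca cc u v : ℕ} (ha : ActsC (t8 b f) 8 (mk2 f a) ca) (hc : ActsC (t8 b f) 8 (mk2 f c) cc)
    (hB : fpB 8 ca cc u v = true) : FPz (Q1 b f) (mk1 b z) (mk1 b a) (mk1 b c) := by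
  rintro _ ⟨q, hq, rfl⟩
  obtain ⟨h, hlt, hh⟩ := D.exists_code hq
  have h1 := fp_codes D.eV ha hc hB hlt
  rw [← hh.1] at h1
  simp only [← mk2_el, ← map_mul, ← map_inv] at h1
  refine ⟨mk1 b (el (tV b) 8 (apc 8 u h)), ⟨_, D.el_mem_QQ _, rfl⟩, mk1 b (el (tV b) 8 (apc 8 v h)),
    ⟨_, D.el_mem_QQ _, rfl⟩, ?_⟩
  simp only [← map_mul, ← map_inv]
  rcases D.mk1_of_mk2 h1 with h2 | h2
  · exact ⟨1, Or.inl rfl, by rw [mul_one]; exact h2⟩
  · exact ⟨_, Or.inr rfl, h2⟩

theorem PD.hact {a c g q : P} {ca cc : ℕ} (ha : ActsC (t8 b f) 8 (mk2 f a) ca) (hc : ActsC (t8 b f) 8 (mk2 f c) cc)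
    (hq : q ∈ QQ f) (hg : g = q * (a * c * a⁻¹ * c⁻¹))
    (hn : ∃ k, k < 8 ∧ apc 8 ca (col 8 cc k) ≠ apc 8 cc (col 8 ca k)) :
    ∃ y ∈ Q1 b f, ¬ (mk1 b g * y * (mk1 b g)⁻¹ = y ∨ mk1 b g * y * (mk1 b g)⁻¹ = y * mk1 b z) := by
  by_contra hno
  push Not at hno
  obtain ⟨k, hk, hn⟩ := hn
  apply hn
  apply D.inj8 (apc_lt' 8 _ _) (apc_lt' 8 _ _)
  have h1 : ∀ j, j < 8 → mk2 f g * t8 b f j * (mk2 f g)⁻¹ = t8 b f j := by
    intro j hj
    have h3 := hno (mk1 b (tV b j)) ⟨_, D.b_mem_QQ (by omega) (by omega), rfl⟩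
    rw [← map_mul, ← map_inv, ← map_mul] at h3 ⊢
    exact D.mk2_of_mk1 h3
  have h2 : ∀ j, j < 8 → mk2 f (a * c * a⁻¹ * c⁻¹) * t8 b f j = t8 b f j * mk2 f (a * c * a⁻¹ * c⁻¹) := by
    intro j hj
    have h3 := h1 j hj
    have h4 := mk2_comm_QQ D hq (D.b_mem_QQ (r := 33 + j) (by omega) (by omega))
    rw [hg, map_mul] at h3
    obtain ⟨X, hX⟩ : ∃ X, X = mk2 f (a * c * a⁻¹ * c⁻¹) := ⟨_, rfl⟩
    rw [← hX] at h3 ⊢
    have h5 : mk2 f q * (X * t8 b f j) = mk2 f q * (t8 b f j * X) := by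
      rw [mul_inv_eq_iff_eq_mul] at h3
      rw [← mul_assoc, h3, ← mul_assoc, ← mul_assoc]
      congr 1
      exact h4.symm
    exact mul_left_cancel h5
  have h3 : ∀ v n, n ≤ 8 → mk2 f (a * c * a⁻¹ * c⁻¹) * el (t8 b f) n v = el (t8 b f) n v * mk2 f (a * c * a⁻¹ * c⁻¹) := by
    obtain ⟨X, hX⟩ : ∃ X, X = mk2 f (a * c * a⁻¹ * c⁻¹) := ⟨_, rfl⟩
    rw [← hX] at h2 ⊢
    intro v n
    induction n with
    | zero => intro _; rw [el, mul_one, one_mul]
    | succ n ih =>
      intro hn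
      rw [el, ← mul_assoc, ih (by omega), mul_assoc, mul_assoc]
      congr 1
      split_ifs
      · exact h2 n (by omega)
      · rw [mul_one, one_mul]
  have h4 := conj_el D.eV ha (col 8 cc k)
  have h5 := conj_el D.eV hc (col 8 ca k)
  rw [← ha k hk] at h5
  rw [← hc k hk] at h4
  rw [← h4, ← h5]
  have h6 := h3 (apc 8 cc (col 8 ca k)) 8 le_rfl
  rw [← h5, map_mul, map_mul, map_mul, map_inv, map_inv] at h6
  calc mk2 f a * (mk2 f c * t8 b f k * (mk2 f c)⁻¹) * (mk2 f a)⁻¹ =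
      (mk2 f a * mk2 f c * (mk2 f a)⁻¹ * (mk2 f c)⁻¹ * (mk2 f c * (mk2 f a * t8 b f k * (mk2 f a)⁻¹) * (mk2 f c)⁻¹)) *
        (mk2 f a * mk2 f c * (mk2 f a)⁻¹ * (mk2 f c)⁻¹)⁻¹ := by group
    _ = _ := by rw [h6]; group

end

/-! ### the words -/

/-- lifts of the seven transvections -/
def TT (b : ℕ → P) (j : ℕ) : P := wd b (tws.getD j [])

theorem twsR : ∀ j < 7, ∀ r ∈ tws.getD j [], 15 ≤ r ∧ r < 33 := by decide

/-- the codes of the letters on `A` -/
def gAl : List ℕ := List.replicate 15 0 ++ cAs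
/-- the codes of the letters on `Q / Z` -/
def gVl : List ℕ := List.replicate 15 0 ++ cVs

theorem gAl_getD : ∀ r < 33, 15 ≤ r → gAl.getD r 0 = cAs.getD (r - 15) 0 := by decide
theorem gVl_getD : ∀ r < 33, 15 ≤ r → gVl.getD r 0 = cVs.getD (r - 15) 0 := by decide

theorem chkG : ((List.range 7).all fun j => isC 7 gAl (tws.getD j []) (g7s.getD j 0) &&
    isC 8 gVl (tws.getD j []) (g8s.getD j 0)) = true := by decide +kernel

theorem chkA_of {i : ℕ} (hi : i < 30) : (∀ j ∈ aw.getD i [], j < 7) ∧ (∀ j ∈ bw.getD i [], j < 7) ∧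
    isC 7 g7s (aw.getD i []) (a7s.getD i 0) = true ∧ isC 7 g7s (bw.getD i []) (b7s.getD i 0) = true ∧
    isC 8 g8s (aw.getD i []) (a8s.getD i 0) = true ∧ isC 8 g8s (bw.getD i []) (b8s.getD i 0) = true := by
  have h := List.all_eq_true.1 chkA i (List.mem_range.2 hi)
  simp only [Bool.and_eq_true, List.all_eq_true, Nat.blt_eq] at h
  obtain ⟨⟨⟨⟨⟨h1, h2⟩, h3⟩, h4⟩, h5⟩, h6⟩ := h
  exact ⟨h1, h2, h3, h4, h5, h6⟩

theorem map_wd {G G' : Type*} [Group G] [Group G'] (φ : G →* G') (T : ℕ → G) (w : List ℕ) :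
    φ (wd T w) = wd (fun r => φ (T r)) w := by
  induction w with
  | nil => exact map_one φ
  | cons j w ih => rw [wd, wd, map_mul, ih]

section

variable (D : PD b z f)

include D

theorem PD.TTA {j : ℕ} (hj : j < 7) : ActsC (tA b) 7 (TT b j) (g7s.getD j 0) := by
  have h := List.all_eq_true.1 chkG j (List.mem_range.2 hj)
  rw [Bool.and_eq_true] at h
  apply acts_of_isC D.eA _ h.1
  intro r hr
  obtain ⟨h1, h2⟩ := twsR j hj r hr
  have h3 := D.actA h1 (show r < 48 by omega)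
  rwa [cAr, if_pos h2, ← gAl_getD r h2 h1] at h3

theorem PD.TTV [hZ : (ZZ f).Normal] {j : ℕ} (hj : j < 7) :
    ActsC (t8 b f) 8 (mk2 f (TT b j)) (g8s.getD j 0) := by
  have h := List.all_eq_true.1 chkG j (List.mem_range.2 hj)
  rw [Bool.and_eq_true] at h
  rw [TT, map_wd]
  apply acts_of_isC D.eV _ h.2
  intro r hr
  obtain ⟨h1, h2⟩ := twsR j hj r hr
  have h3 := D.actV h1 h2
  rwa [← gVl_getD r h2 h1] at h3

theorem PD.TTR {j : ℕ} (hj : j < 7) : R2 b (TT b j) (tv j) := by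
  apply D.R2_of_RR
  intro v hv
  refine ⟨apc 7 (g7s.getD j 0) v, apc_lt' 7 _ _, conj_el D.eA (D.TTA hj) v, ?_⟩
  have h := List.all_eq_true.1 (List.all_eq_true.1 chkT j (List.mem_range.2 hj)) v (List.mem_range.2 hv)
  rw [beq_iff_eq] at h
  rw [h, ap_tv _ (p6_lt v hv)]

theorem PD.R2_TT {w : List ℕ} (hw : ∀ j ∈ w, j < 7) : R2 b (wd (TT b) w) (wd tv w) := by
  induction w with
  | nil => exact R2.one
  | cons j w ih =>
    rw [wd, wd]
    exact (D.TTR (hw j List.mem_cons_self)).mul (ih fun k hk => hw k (List.mem_cons_of_mem _ hk))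

theorem PD.QQ_cen {p : P} (hp : p ∈ QQ f) {a : P} (ha : a ∈ AA b) : p * a = a * p := by
  obtain ⟨q, hq, h⟩ := D.mem_QQ hp
  have h1 : q * a = a * q := by
    clear h
    induction hq using Subgroup.closure_induction with
    | mem g hg =>
      obtain ⟨r, h1, h2, rfl⟩ := hg
      exact (D.AA_cen ha h1 h2).symm
    | one => rw [one_mul, mul_one]
    | mul g h _ _ e1 e2 => rw [mul_assoc, e2, ← mul_assoc, e1, mul_assoc]
    | inv g _ e =>
      calc g⁻¹ * a = g⁻¹ * (a * g) * g⁻¹ := by group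
        _ = g⁻¹ * (g * a) * g⁻¹ := by rw [e]
        _ = a * g⁻¹ := by group
  rcases h with rfl | rfl
  · exact h1
  · rw [mul_assoc, ← D.zc a, ← mul_assoc, h1, mul_assoc]

theorem PD.ActsC_mul {p a : P} (hp : p ∈ QQ f) {c : ℕ} (h : ActsC (tA b) 7 a c) : ActsC (tA b) 7 (p * a) c := by
  intro i hi
  have e : p * a * tA b i * (p * a)⁻¹ = p * (a * tA b i * a⁻¹) * p⁻¹ := by group
  rw [e, h i hi, D.QQ_cen hp (el_mem_AA _), mul_inv_cancel_right]

/-- every element of `P ∖ Q` is a commutator -/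
theorem PD.isComm [Finite P] {g : P} (hg : f g ∉ RG w33) : IsComm g := by
  have hA : (AA b).Normal := D.normA
  have hZ : (ZZ f).Normal := D.normZ
  obtain ⟨s, hs⟩ := D.total g
  obtain ⟨i, hi, h, e⟩ := exists_rep30 s
  obtain ⟨d, hd⟩ := D.surj h
  have hi0 : i ≠ 0 := by
    rintro rfl
    apply hg
    apply D.ker_R
    have e' : h * s * h⁻¹ = 1 := e
    rw [mul_inv_eq_one, mul_eq_left] at e'
    rw [← e']
    exact hs.1
  obtain ⟨h1, h2, h3, h4, h5, h6⟩ := chkA_of hi
  obtain ⟨g', hg'⟩ : ∃ g', g' = d * g * d⁻¹ := ⟨_, rfl⟩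
  obtain ⟨a, haa⟩ : ∃ a, a = wd (TT b) (aw.getD i []) := ⟨_, rfl⟩
  obtain ⟨c, hcc⟩ : ∃ c, c = wd (TT b) (bw.getD i []) := ⟨_, rfl⟩
  have k1 : R2 b g' (wd tv (rws.getD i [])) := by
    rw [hg', ← e]
    exact (hd.mul hs).mul hd.inv
  have k2 : R2 b a (wd tv (aw.getD i [])) := by rw [haa]; exact D.R2_TT h1
  have k3 : R2 b c (wd tv (bw.getD i [])) := by rw [hcc]; exact D.R2_TT h2
  have k4 : R2 b (a * c * a⁻¹ * c⁻¹) (wd tv (rws.getD i [])) := by
    rw [comm_aw hi]
    exact ((k2.mul k3).mul k2.inv).mul k3.inv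
  have k5 : g' * (a * c * a⁻¹ * c⁻¹)⁻¹ ∈ QQ f := by
    apply D.ker_R
    have := (k1.mul k4.inv).1
    rwa [mul_inv_cancel] at this
  have a7 : ActsC (tA b) 7 a (a7s.getD i 0) := by
    rw [haa]
    exact acts_of_isC D.eA (fun j hj => D.TTA (h1 j hj)) h3
  have c7 : ActsC (tA b) 7 c (b7s.getD i 0) := by
    rw [hcc]
    exact acts_of_isC D.eA (fun j hj => D.TTA (h2 j hj)) h4
  have a8 : ActsC (t8 b f) 8 (mk2 f a) (a8s.getD i 0) := by
    rw [haa, map_wd]
    exact acts_of_isC D.eV (fun j hj => D.TTV (h1 j hj)) h5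
  have c8 : ActsC (t8 b f) 8 (mk2 f c) (b8s.getD i 0) := by
    rw [hcc, map_wd]
    exact acts_of_isC D.eV (fun j hj => D.TTV (h2 j hj)) h6
  have nz : ∀ {t : Bool}, (Nat.beq i 0 || t) = true → t = true := by
    intro t ht
    rw [Bool.or_eq_true] at ht
    rcases ht with ht | ht
    · exact absurd (Nat.eq_of_beq_eq_true ht) hi0
    · exact ht
  have f7 := nz (List.all_eq_true.1 fp7 i (List.mem_range.2 hi))
  have f8 := nz (List.all_eq_true.1 fp8 i (List.mem_range.2 hi))
  have n8 := nz (List.all_eq_true.1 nt8 i (List.mem_range.2 hi))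
  have hn : ∃ k, k < 8 ∧ apc 8 (a8s.getD i 0) (col 8 (b8s.getD i 0) k) ≠
      apc 8 (b8s.getD i 0) (col 8 (a8s.getD i 0) k) := by
    rw [List.any_eq_true] at n8
    obtain ⟨k, hk, hk2⟩ := n8
    rw [Bool.not_eq_true', beq_eq_false_iff_ne] at hk2
    exact ⟨k, List.mem_range.1 hk, hk2⟩
  have hact := D.hact a8 c8 k5 (g := g') (by group) hn
  have hfp := D.fpz a8 c8 f8
  have hc1 : mk1 b g' * (mk1 b a * mk1 b c * (mk1 b a)⁻¹ * (mk1 b c)⁻¹)⁻¹ ∈ Q1 b f := by
    refine ⟨_, k5, ?_⟩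
    simp only [map_mul, map_inv]
  obtain ⟨_, ⟨p₁, hp₁, rfl⟩, _, ⟨p₂, hp₂, rfl⟩, e1⟩ := D.es.step hfp hc1 hact
  have k6 : g' * ((p₁ * a) * (p₂ * c) * (p₁ * a)⁻¹ * (p₂ * c)⁻¹)⁻¹ ∈ AA b := by
    rw [← mk1_one]
    simp only [map_mul, map_inv] at e1 ⊢
    rw [e1, mul_inv_cancel]
  have hFP : FP (AA b) (p₁ * a) (p₂ * c) := by
    intro w hw
    obtain ⟨v, hv, rfl⟩ := D.mem_AA hw
    exact ⟨_, el_mem_AA _, _, el_mem_AA _, fp_codes D.eA (D.ActsC_mul hp₁ a7) (D.ActsC_mul hp₂ c7) f7 hv⟩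
  obtain ⟨q₁, -, q₂, -, e2⟩ := exists_comm_of_FP D.normA D.commA hFP k6
  have k7 : IsComm g' := ⟨_, _, e2⟩
  have k8 := k7.conj d⁻¹
  have e3 : d⁻¹ * g' * d⁻¹⁻¹ = g := by rw [hg']; group
  rwa [e3] at k8

end

end Cfsg.Agent.H374.QS.FF
end

-- part: H434/FF/NotRad
section
/-!
# Elements of maximal parabolics of `F₄(2)` outside the radical

`not_rad` : if a conjugate of `g ≠ 1` lies in `Ps` or in `Pl`, then a conjugate of `g` lies in `Ps` outside `O₂(Ps)` or in
`Pl` outside `O₂(Pl)`.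
-/

set_option autoImplicit false

namespace Cfsg.Agent.H434.FF

open Cfsg.Lie Cfsg.Agent.FourTwo.Base Cfsg.Agent.FourTwo.BN Cfsg.Agent.FourTwo.Par Cfsg.Agent.FourTwo.Cent
  Cfsg.Agent.FourTwo.Facts2 Cfsg.Agent.FourTwo.Comm

/-- the roots of `O₂(Pl)` -/
def ql (r : ℕ) : Bool := [24, 26, 29, 31, 32, 36, 38, 39, 40, 42, 43, 44, 45, 46, 47].contains r

theorem not_rad {g : LL} (h1 : g ≠ 1) (h : ∃ y, y * g * y⁻¹ ∈ Ps ∨ y * g * y⁻¹ ∈ Pl) :
    (∃ y, y * g * y⁻¹ ∈ Ps ∧ y * g * y⁻¹ ∉ RG (fun r => decide (33 ≤ r))) ∨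
    (∃ y, y * g * y⁻¹ ∈ Pl ∧ y * g * y⁻¹ ∉ RG ql) := by
  by_contra hcon
  push Not at hcon
  obtain ⟨N1, N2⟩ := hcon
  have e1 : RG (fun r => decide (33 ≤ r)) ≤ U := by
    rw [U_eq_RG]
    exact RG_mono fun r _ hp => by
      rw [decide_eq_true_eq] at hp ⊢
      omega
  have e2 : RG ql ≤ U := by
    rw [U_eq_RG]
    have ht : ∀ r < 48, ql r = true → decide (24 ≤ r) = true := by decide +kernel
    exact RG_mono ht
  have hX : ∃ y, y * g * y⁻¹ ∈ RG (fun r => decide (33 ≤ r)) ∧ y * g * y⁻¹ ∈ RG ql := by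
    obtain ⟨y, hy | hy⟩ := h
    · have h2 := N1 y hy
      exact ⟨y, h2, N2 y (U_le_Pl (e1 h2))⟩
    · have h2 := N2 y hy
      exact ⟨y, N1 y (U_le_Ps (e2 h2)), h2⟩
  -- the elements which keep the property
  let H : Subgroup LL :=
    { carrier := {k | ∀ y, (y * g * y⁻¹ ∈ RG (fun r => decide (33 ≤ r)) ∧ y * g * y⁻¹ ∈ RG ql) ↔
        (k * y * g * (k * y)⁻¹ ∈ RG (fun r => decide (33 ≤ r)) ∧ k * y * g * (k * y)⁻¹ ∈ RG ql)}
      one_mem' := by intro y; rw [one_mul]
      mul_mem' := by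
        intro a b ha hb y
        rw [hb y, ha (b * y), mul_assoc a b y]
      inv_mem' := by
        intro a ha y
        have h2 := ha (a⁻¹ * y)
        rw [mul_inv_cancel_left] at h2
        exact h2.symm }
  have key : ∀ P : Subgroup LL, (P = Ps ∨ P = Pl) → ∀ p ∈ P, ∀ y,
      (y * g * y⁻¹ ∈ RG (fun r => decide (33 ≤ r)) ∧ y * g * y⁻¹ ∈ RG ql) →
      (p * y * g * (p * y)⁻¹ ∈ RG (fun r => decide (33 ≤ r)) ∧ p * y * g * (p * y)⁻¹ ∈ RG ql) := by
    rintro P (rfl | rfl) p hp y ⟨h2, h3⟩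
    · have h4 : p * y * g * (p * y)⁻¹ ∈ Ps := by
        rw [show p * y * g * (p * y)⁻¹ = p * (y * g * y⁻¹) * p⁻¹ by group]
        exact mul_mem (mul_mem hp (U_le_Ps (e1 h2))) (inv_mem hp)
      have h5 := N1 _ h4
      exact ⟨h5, N2 _ (U_le_Pl (e1 h5))⟩
    · have h4 : p * y * g * (p * y)⁻¹ ∈ Pl := by
        rw [show p * y * g * (p * y)⁻¹ = p * (y * g * y⁻¹) * p⁻¹ by group]
        exact mul_mem (mul_mem hp (U_le_Pl (e1 h2))) (inv_mem hp)
      have h5 := N2 _ h4
      exact ⟨N1 _ (U_le_Ps (e2 h5)), h5⟩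
  have hH : ∀ P : Subgroup LL, (P = Ps ∨ P = Pl) → P ≤ H := by
    intro P hP p hp y
    constructor
    · exact key P hP p hp y
    · intro h2
      have h3 := key P hP p⁻¹ (inv_mem hp) (p * y) h2
      rwa [inv_mul_cancel_left] at h3
  have htop := closure_Ps_Pl (hH Ps (Or.inl rfl)) (hH Pl (Or.inr rfl))
  obtain ⟨y₀, hy₀⟩ := hX
  have hall : ∀ y, y * g * y⁻¹ ∈ RG (fun r => decide (33 ≤ r)) := by
    intro y
    have h2 : y * y₀⁻¹ ∈ H := by rw [htop]; exact Subgroup.mem_top _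
    have h3 := (h2 y₀).1 hy₀
    rw [inv_mul_cancel_right] at h3
    exact h3.1
  -- the normal subgroup
  let N : Subgroup LL :=
    { carrier := {k | ∀ y, y * k * y⁻¹ ∈ RG (fun r => decide (33 ≤ r))}
      one_mem' := by intro y; rw [mul_one, mul_inv_cancel]; exact one_mem _
      mul_mem' := by
        intro a b ha hb y
        rw [show y * (a * b) * y⁻¹ = (y * a * y⁻¹) * (y * b * y⁻¹) by group]
        exact mul_mem (ha y) (hb y)
      inv_mem' := by
        intro a ha y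
        rw [show y * a⁻¹ * y⁻¹ = (y * a * y⁻¹)⁻¹ by group]
        exact inv_mem (ha y) }
  have hN : N.Normal := ⟨by
    intro a ha b y
    rw [show y * (b * a * b⁻¹) * y⁻¹ = (y * b) * a * (y * b)⁻¹ by group]
    exact ha (y * b)⟩
  have hs : IsSimpleGroup LL := (Cfsg.Agent.S1054.result (F := ZMod 2) chevF4 (by simp)).1
  rcases hN.eq_bot_or_eq_top with hb | ht
  · exact h1 (by
      have : g ∈ N := hall
      rwa [hb, Subgroup.mem_bot] at this)
  · have h2 : x 24 ∈ N := by rw [ht]; exact Subgroup.mem_top _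
    have h3 := h2 1
    rw [one_mul, inv_one, mul_one] at h3
    have hc : closedB (fun r => decide (33 ≤ r)) = true := by decide +kernel
    have h4 := (x_mem_RG_iff hc (by norm_num : 24 < 48)).1 h3
    exact absurd h4 (by decide)

end Cfsg.Agent.H434.FF
end

private theorem dce_b3d56f4f6f6b : _root_.True := by
  try have : _root_.True := by simp only [_root_.Cfsg.Agent.H374.QS.FF.t8.congr_simp]
  try have : _root_.True := by simp only [_root_.Cfsg.Agent.H374.QS.FF.t5.eq_1]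
  try have : _root_.True := by simp only [_root_.Cfsg.Agent.H374.QS.FF.el.eq_1]
  try have : _root_.True := by simp only [_root_.Cfsg.Agent.H374.QS.FF.st.eq_1]
  try have : _root_.True := by simp only [_root_.Cfsg.Agent.H374.QS.FF.cAr.eq_1]
  try have : _root_.True := by simp only [_root_.Cfsg.Agent.H374.QS.FF.scw.eq_1]
  try have : _root_.True := by simp only [_root_.Cfsg.Agent.H374.QS.FF.TT.eq_1]
  try have : _root_.True := by simp only [_root_.Cfsg.Agent.H374.QS.FF.cdw.eq_1]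
  try have : _root_.True := by simp only [_root_.Cfsg.Agent.H374.QS.FF.wb.eq_1]
  try have : _root_.True := by simp only [_root_.Cfsg.Agent.H374.QS.FF.sc.eq_1]
  try have : _root_.True := by simp only [_root_.Cfsg.Agent.H374.QS.FF.el.eq_2]
  try have : _root_.True := by simp only [_root_.Cfsg.Agent.H374.QS.FF.sz.eq_1]
  try have : _root_.True := by simp only [_root_.Cfsg.Agent.H374.QS.FF.el.eq_def]
  exact _root_.True.intro
end

-- part: H374/QS/FF/Row
section
prune_inst 0x10004100080000000000000000000020480000020000000000000800000000000000080000800000002084000000800811000000021000000000000000000000000002000000a000000000000000000000000000000000000000000000000000000000000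
set_option linter.all false
open scoped Cfsg.Agent.FastGrp

namespace Cfsg.Agent.PFd2b50afa
open Cfsg.Agent.Lib.PackMat
/-- salted copies of the `PackMat` loops (no collisions in the kernel caches) -/
private noncomputable def pF (r LO HI nf : ℕ) : ℕ → ℕ :=
  Nat.rec (fun F => F) (fun _ ih F => ih (Nat.add (Nat.land F LO) (Nat.land (Nat.shiftRight F r) HI))) nf
private noncomputable def pN (p m t HT F : ℕ) : ℕ :=
  Nat.sub F (Nat.mul p (Nat.land (Nat.shiftRight (Nat.mul F m) t) HT))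
private noncomputable def pR (p r m t nf GM FM LO HI HT : ℕ) (w : List ℕ) : ℕ → ℕ → ℕ :=
  List.rec (fun _ R => R) (fun g _ ih c R => force (pN p m t HT (pF r LO HI nf
    (Nat.mod (Nat.land (Nat.mul (Nat.add R (Nat.sub c c)) g) GM) FM))) (ih (Nat.succ c))) w
private theorem pF_eq (r LO HI nf : ℕ) : ∀ F, pF r LO HI nf F = foldK r LO HI nf F := by
  induction nf with
  | zero => exact fun _ => rfl
  | succ k ih => exact fun F => ih _
private theorem pR_eq (p r m t nf GM FM LO HI HT : ℕ) (w : List ℕ) :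
    ∀ c R, pR p r m t nf GM FM LO HI HT w c R = runK p r m t nf GM FM LO HI HT w R := by
  induction w with
  | nil => exact fun _ _ => rfl
  | cons g w ih =>
    intro c R
    refine (ih (Nat.succ c) (pN p m t HT (pF r LO HI nf
      (Nat.mod (Nat.land (Nat.mul (Nat.add R (Nat.sub c c)) g) GM) FM)))).trans ?_
    rewrite [pF_eq, show Nat.sub c c = 0 from Nat.sub_self c]
    rfl
private noncomputable def pS (s p r m t nf GM FM LO HI HT : ℕ) (w : List ℕ) (c cnt : ℕ) : ℕ → Bool :=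
  Nat.rec (fun _ => true) (fun i ih R => bif Nat.beq (pR p r m t nf GM FM LO HI HT w (Nat.mul i 2000000) R)
    (Nat.mul c R) then force (Nat.shiftRight R s) ih else false) cnt
private theorem sK : @checkScalarK = pS := by
  funext s p r m t nf GM FM LO HI HT w c cnt
  induction cnt with
  | zero => rfl
  | succ i ih =>
    funext R
    exact congrArg₂ (fun a b => bif a then b else false)
      (congrArg (Nat.beq · _) (pR_eq ..).symm) (congrFun ih _)
end Cfsg.Agent.PFd2b50afa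
set_option linter.all false

-- part: H763/TwoF4/Honda
section
/-!
# Honda's theorem (helper763)

`isC_pow` : a power `g ^ k` with `k` prime to the order of the commutator `g` is a commutator.
-/

set_option autoImplicit false

namespace Cfsg.Agent.H763.Honda

open Cfsg Cfsg.Agent.H777.Ore Cfsg.Agent.Characters.Counting Cfsg.Agent.Characters.GaloisBasic

universe u

variable {G : Type u} [Group G] [Finite G]

theorem card_pow {m : ℕ} (hm : m.Coprime (Nat.card G)) (g : G) :
    Nat.card {p : G × G // p.1 * p.2 * p.1⁻¹ * p.2⁻¹ * g ^ m = 1} =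
      Nat.card {p : G × G // p.1 * p.2 * p.1⁻¹ * p.2⁻¹ * g = 1} := by
  have : Finite (IrrCharacter G) := Characters.Core.finite_irr
  have : Fintype (IrrCharacter G) := Fintype.ofFinite _
  obtain ⟨σ, hσ⟩ := exists_ringEquiv_of_coprime hm
  have h1 := card_commutator_pairs g
  have h2 := card_commutator_pairs (g ^ m)
  have h3 := congrArg σ h1
  rw [map_natCast, map_mul, map_natCast, map_sum] at h3
  have h4 : (∑ χ : IrrCharacter G, σ ((χ : G → ℂ) g / (χ : G → ℂ) 1)) =
      ∑ χ : IrrCharacter G, (χ : G → ℂ) (g ^ m) / (χ : G → ℂ) 1 := by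
    refine Finset.sum_congr rfl fun χ _ => ?_
    rw [map_div₀, hσ _ (Characters.Core.isIrr_isCharacter χ.2) g, hσ _ (Characters.Core.isIrr_isCharacter χ.2) 1,
      one_pow]
  rw [h4, ← h2] at h3
  exact_mod_cast h3.symm

theorem isC_iff_card (g : G) :
    IsC g ↔ Nat.card {p : G × G // p.1 * p.2 * p.1⁻¹ * p.2⁻¹ * g⁻¹ = 1} ≠ 0 := by
  constructor
  · rintro ⟨a, b, rfl⟩
    rw [Nat.card_ne_zero]
    exact ⟨⟨⟨(a, b), mul_inv_cancel _⟩⟩, inferInstance⟩
  · intro h
    obtain ⟨⟨⟨a, b⟩, h1⟩⟩ := (Nat.card_ne_zero.1 h).1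
    exact ⟨a, b, (mul_inv_eq_one.1 h1).symm⟩

/-- an exponent prime to `n` -/
theorem exists_coprime {k n N : ℕ} (hn : n ∣ N) (hN : N ≠ 0) (hk : k.Coprime n) :
    ∃ m : ℕ, m.Coprime N ∧ m ≡ k [MOD n] := by
  have : NeZero N := ⟨hN⟩
  have : NeZero n := ⟨fun h => hN (Nat.eq_zero_of_zero_dvd (h ▸ hn))⟩
  obtain ⟨u, hu⟩ := ZMod.unitsMap_surjective hn (ZMod.unitOfCoprime k hk)
  refine ⟨(u : ZMod N).val, ZMod.val_coe_unit_coprime u, ?_⟩
  rw [← ZMod.natCast_eq_natCast_iff]
  have h1 := congrArg (fun v : (ZMod n)ˣ => (v : ZMod n)) hu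
  simp only [ZMod.unitsMap_def, Units.coe_map, MonoidHom.coe_coe, ZMod.castHom_apply, ZMod.coe_unitOfCoprime] at h1
  rw [← h1, ZMod.natCast_val]

/-- **Honda's theorem** -/
theorem isC_pow {g : G} (h : IsC g) {k : ℕ} (hk : k.Coprime (orderOf g)) : IsC (g ^ k) := by
  obtain ⟨m, h1, h2⟩ := exists_coprime (orderOf_dvd_natCard g) Nat.card_pos.ne' hk
  have h3 : g ^ k = g ^ m := (pow_eq_pow_iff_modEq.2 h2).symm
  rw [h3, isC_iff_card, ← inv_pow, card_pow h1, ← isC_iff_card]
  exact h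

end Cfsg.Agent.H763.Honda
end

-- part: H763/TwoF4/Words
section
/-!
# `2.F₄(2)`: the elements over the classes 13, 17A, 17B, 21A, 21B are commutators (helper763; QS hub, D7)

`Cov Γ` : `Γ` is the double cover in `GL₅₂(7)` (matrices of helper65). `isC_13`, `isC_17`, `isC_21` : both lifts of the
elements of order 13, 17, 21 of `F₄(2)` are commutators, from the conjugacy statements `conj13`, `conj17`, `conj21` in
`F₄(2)` (helper326, helper197).
-/

set_option autoImplicit false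
set_option maxRecDepth 100000

namespace Cfsg.Agent.H763.TwoF4

open Cfsg.Lie Cfsg.Agent.Lib.PackMat Cfsg.Agent.Lib.PackMatGroup Cfsg.Agent.FourTwo.Base Cfsg.Agent.FourTwo.ClassSep
open Cfsg.Agent.H65.F4T Cfsg.Agent.H777.Ore

universe u

theorem gen_inv {M : Type*} [Group M] [HasDistribNeg M] (v : M) : (-v)⁻¹ = -v⁻¹ := inv_neg

theorem gen_odd {M : Type*} [Monoid M] [HasDistribNeg M] {v s : M} {n : ℕ} (hn : Odd n) (h : v ^ n = s) :
    (-v) ^ n = -s := by rw [hn.neg_pow, h]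

theorem gen_pm {M : Type*} [Monoid M] [HasDistribNeg M] {v w : M} {n : ℕ} (h : v = w ∨ v = -w)
    (hw : w ^ n = 1 ∨ w ^ n = -1) : v ^ n = 1 ∨ v ^ n = -1 := by
  rcases h with rfl | rfl
  · exact hw
  · rcases Nat.even_or_odd n with hn | hn
    · rw [hn.neg_pow]; exact hw
    · rw [hn.neg_pow]
      rcases hw with e | e <;> rw [e]
      · exact Or.inr rfl
      · exact Or.inl (neg_neg _)

/-! ### words in the matrices -/

/-- product of a word in the matrices -/
noncomputable def WX (w : List ℕ) : U C := (w.map X).prod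

theorem WX_nil : WX [] = 1 := rfl

theorem WX_cons (r : ℕ) (w : List ℕ) : WX (r :: w) = X r * WX w := by simp [WX]

theorem WX_append (u v : List ℕ) : WX (u ++ v) = WX u * WX v := by simp [WX]

/-- repetition of a word -/
def rp (m : ℕ) (u : List ℕ) : List ℕ := (List.replicate m u).flatten

theorem WX_rp (m : ℕ) (u : List ℕ) : WX (rp m u) = WX u ^ m := by
  induction m with
  | zero => rfl
  | succ m ih =>
    have e : rp (m + 1) u = u ++ rp m u := rfl
    rw [e, WX_append, ih, pow_succ']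

theorem wd_rp (m : ℕ) (u : List ℕ) : wd (rp m u) = wd u ^ m := by
  induction m with
  | zero => rfl
  | succ m ih =>
    have e : rp (m + 1) u = u ++ rp m u := rfl
    rw [e, wd_append, ih, pow_succ']

/-- letters -/
abbrev okw (w : List ℕ) : Prop := (w.all fun r => decide (r < 48)) = true

theorem okw.lt {w : List ℕ} (h : okw w) : ∀ r ∈ w, r < 48 := fun r hr =>
  of_decide_eq_true (List.all_eq_true.1 h r hr)

theorem coe_WX : ∀ {w : List ℕ}, (∀ r ∈ w, r < 48) → ((WX w : U C) : M C) = (w.map Mt).prod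
  | [], _ => rfl
  | r :: w, h => by
    rw [WX_cons, List.map_cons, List.prod_cons, Units.val_mul, coe_X (h r List.mem_cons_self),
      coe_WX fun s hs => h s (List.mem_cons_of_mem _ hs)]

theorem ok_cw : ∀ {w : List ℕ}, (∀ r ∈ w, r < 48) → ∀ g ∈ cw L w, okG C g = true
  | [], _, g, hg => absurd hg (List.not_mem_nil)
  | r :: w, h, g, hg => by
    rw [cw_cons, List.mem_cons] at hg
    rcases hg with rfl | hg
    · exact okA (h r List.mem_cons_self)
    · exact ok_cw (fun s hs => h s (List.mem_cons_of_mem _ hs)) g hg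

theorem WX_one {w : List ℕ} (hw : okw w) (h : checkScalar C (cw L w) 1 0 52 = true) : WX w = 1 := by
  apply Units.ext
  have h1 := prod_scalar_of_check good (w := cw L w) (c := 1) (by decide) one_lt (ok_cw hw.lt) h
  rw [cw_map] at h1
  rw [coe_WX hw.lt, h1, Nat.cast_one, one_smul, Units.val_one]

theorem WX_neg {w : List ℕ} (hw : okw w) (h : checkScalar C (cw L w) 6 0 52 = true) : WX w = -1 := by
  apply Units.ext
  have h1 := prod_scalar_of_check good (w := cw L w) (c := 6) (by decide) one_lt (ok_cw hw.lt) h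
  rw [cw_map] at h1
  have e : ((6 : ℕ) : ZMod C.p) = -1 := by decide
  rw [coe_WX hw.lt, h1, e, neg_smul, one_smul, Units.val_neg, Units.val_one]

theorem okw_rp {w : List ℕ} (h : okw w) (m : ℕ) : okw (rp m w) := by
  unfold okw rp
  rw [List.all_flatten, List.all_eq_true]
  intro l hl
  rw [List.eq_of_mem_replicate hl]
  exact h

/-- the commutator word -/
def cm (a b : List ℕ) : List ℕ := a ++ (b ++ (a.reverse ++ b.reverse))

theorem WX_reverse : ∀ {w : List ℕ}, (∀ r ∈ w, r < 48) → WX w.reverse = (WX w)⁻¹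
  | [], _ => by rw [List.reverse_nil, WX_nil, inv_one]
  | r :: w, h => by
    have h1 : (X r)⁻¹ = X r := inv_eq_of_mul_eq_one_left (X_sq (h r List.mem_cons_self))
    rw [List.reverse_cons, WX_append, WX_reverse fun s hs => h s (List.mem_cons_of_mem _ hs), WX_cons r [], WX_nil,
      mul_one, WX_cons r w, mul_inv_rev, h1]

theorem wd_reverse : ∀ w : List ℕ, wd w.reverse = (wd w)⁻¹
  | [] => by rw [List.reverse_nil, wd_nil, inv_one]
  | r :: w => by
    rw [List.reverse_cons, wd_append, wd_reverse w, wd_one, wd_cons, mul_inv_rev, x_inv]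

theorem WX_cm {a b : List ℕ} (ha : okw a) (hb : okw b) : WX (cm a b) = WX a * WX b * (WX a)⁻¹ * (WX b)⁻¹ := by
  unfold cm
  rw [WX_append, WX_append, WX_append, WX_reverse ha.lt, WX_reverse hb.lt]
  simp only [mul_assoc]

theorem wd_cm (a b : List ℕ) : wd (cm a b) = wd a * wd b * (wd a)⁻¹ * (wd b)⁻¹ := by
  unfold cm
  rw [wd_append, wd_append, wd_append, wd_reverse, wd_reverse]
  simp only [mul_assoc]

/-! ### the double cover -/

/-- `Γ` is the double cover of `F₄(2)` given by the matrices -/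
structure Cov (Γ : Type u) [Group Γ] where
  /-- the embedding -/
  ι : Γ →* U C
  inj : Function.Injective ι
  /-- the projection -/
  σ : Γ →* LL
  surj : Function.Surjective σ
  hX : ∀ r < 48, ∀ g, σ g = x r → ι g = X r ∨ ι g = -X r
  hk : ∀ g, σ g = 1 ↔ ι g = 1 ∨ ι g = -1

/-- the standard form of the hypotheses -/
def Cov.mk' {Γ : Type u} [Group Γ] (ι : Γ →* U C) (inj : Function.Injective ι) (σ : Γ →* LL)
    (surj : Function.Surjective σ) (φ : LL →* U C ⧸ NN) (hφ : ∀ r < 48, φ (x r) = q (X r))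
    (hinj : Function.Injective φ) (h : ∀ g, φ (σ g) = q (ι g)) : Cov Γ where
  ι := ι
  inj := inj
  σ := σ
  surj := surj
  hX := by
    intro r hr g hg
    have h1 := h g
    rw [hg, hφ r hr] at h1
    have h2 : q (ι g * (X r)⁻¹) = 1 := by rw [map_mul, map_inv, ← h1, mul_inv_cancel]
    rcases q_eq_one.1 h2 with e | e
    · exact Or.inl (mul_inv_eq_one.1 e)
    · exact Or.inr (by rw [mul_inv_eq_iff_eq_mul.1 e, neg_one_mul])
  hk := by
    intro g
    rw [← q_eq_one, ← h g, ← map_one φ]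
    exact hinj.eq_iff.symm

namespace Cov

variable {Γ : Type u} [Group Γ] (K : Cov Γ)

theorem hlift (w : List ℕ) (hw : ∀ r ∈ w, r < 48) : ∃ g : Γ, K.σ g = wd w ∧ (K.ι g = WX w ∨ K.ι g = -WX w) := by
  induction w with
  | nil => exact ⟨1, by rw [map_one, wd_nil], Or.inl (by rw [map_one, WX_nil])⟩
  | cons r w ih =>
    obtain ⟨g, h1, h2⟩ := ih fun s hs => hw s (List.mem_cons_of_mem _ hs)
    obtain ⟨t, ht⟩ := K.surj (x r)
    refine ⟨t * g, by rw [map_mul, ht, h1, wd_cons], ?_⟩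
    rw [map_mul, WX_cons]
    rcases K.hX r (hw r List.mem_cons_self) t ht with e | e <;> rcases h2 with e' | e' <;> rw [e, e']
    · exact Or.inl rfl
    · exact Or.inr (by rw [mul_neg])
    · exact Or.inr (by rw [neg_mul])
    · exact Or.inl (by rw [neg_mul_neg])

/-- the commutator of two words -/
theorem hcomm {a b : List ℕ} (ha : okw a) (hb : okw b) :
    ∃ g : Γ, IsC g ∧ K.σ g = wd (cm a b) ∧ K.ι g = WX (cm a b) := by
  obtain ⟨A, h1, h2⟩ := K.hlift a ha.lt
  obtain ⟨B, h3, h4⟩ := K.hlift b hb.lt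
  refine ⟨A * B * A⁻¹ * B⁻¹, ⟨A, B, rfl⟩, ?_, ?_⟩
  · rw [map_mul, map_mul, map_mul, map_inv, map_inv, h1, h3, wd_cm]
  · rw [map_mul, map_mul, map_mul, map_inv, map_inv, WX_cm ha hb]
    have hn : ∀ v : U C, (-v)⁻¹ = -v⁻¹ := fun v => gen_inv (M := U C) v
    rcases h2 with e | e <;> rcases h4 with e' | e' <;> rw [e, e']
    · rw [hn]; simp only [mul_neg, neg_mul, neg_neg]
    · rw [hn]; simp only [mul_neg, neg_mul, neg_neg]
    · rw [hn, hn]; simp only [mul_neg, neg_mul, neg_neg]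

/-- conjugates with the same power -/
theorem isC_of_pow {n : ℕ} (hn : Odd n) {c g : Γ} (hc : IsC c) {s : U C} (hs : s = 1 ∨ s = -1) (h1 : K.ι c ^ n = s)
    (h2 : K.ι g ^ n = s) (h : IsConj (K.σ g) (K.σ c)) : IsC g := by
  obtain ⟨y, hy⟩ := isConj_iff.1 h.symm
  obtain ⟨t, ht⟩ := K.surj y
  have h3 : K.σ ((t * c * t⁻¹)⁻¹ * g) = 1 := by
    rw [map_mul, map_inv, map_mul, map_mul, map_inv, ht, hy, inv_mul_cancel]
  rcases (K.hk _).1 h3 with e | e
  · have h4 : (t * c * t⁻¹)⁻¹ * g = 1 := K.inj (by rw [e, map_one])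
    rw [← inv_mul_eq_one.1 h4]
    exact hc.map (MulAut.conj t).toMonoidHom
  · exfalso
    have h4 : K.ι g = -(K.ι (t * c * t⁻¹)) := by
      rw [map_mul, map_inv, inv_mul_eq_iff_eq_mul] at e
      rw [e, mul_neg_one]
    have h5 : K.ι (t * c * t⁻¹) ^ n = s := by
      rw [map_mul, map_mul, map_inv, conj_pow, h1]
      rcases hs with rfl | rfl
      · rw [mul_one, mul_inv_cancel]
      · rw [mul_neg_one, neg_mul, mul_inv_cancel]
    have h6 : K.ι g ^ n = -s := by
      rw [h4]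
      exact gen_odd (M := U C) hn h5
    rw [h2] at h6
    rcases hs with rfl | rfl
    · exact neg_one_ne h6.symm
    · rw [neg_neg] at h6
      exact neg_one_ne h6

/-- the power is central -/
theorem pow_eq {g : Γ} {n : ℕ} (h : orderOf (K.σ g) = n) : K.ι g ^ n = 1 ∨ K.ι g ^ n = -1 := by
  rw [← map_pow]
  exact (K.hk _).1 (by rw [map_pow, ← h, pow_orderOf_eq_one])

end Cov

/-- the order of a word in `F₄(2)` from the matrices: prime order -/
theorem pow_wd {Γ : Type u} [Group Γ] (K : Cov Γ) {w : List ℕ} (hw : okw w) {n : ℕ} (h : WX w ^ n = 1 ∨ WX w ^ n = -1) :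
    wd w ^ n = 1 := by
  obtain ⟨g, h1, h2⟩ := K.hlift w hw.lt
  rw [← h1, ← map_pow, K.hk, map_pow]
  exact gen_pm (M := U C) h2 h

theorem rk2_one : rk2 (1 : LL) = (0, 0) := by
  have h : iv [] = (0, 0) := by decide +kernel
  rw [← h, ← rk2_wd [] (by decide), wd_nil]

theorem wd_ne_one {w : List ℕ} (hw : okw w) {p : ℕ × ℕ} (h : iv w = p) (hp : p ≠ (0, 0)) : wd w ≠ 1 := by
  intro h1
  apply hp
  rw [← h, ← rk2_wd w hw, h1, rk2_one]

/-! ### the commutators -/

/-- the pair `13` -/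
def a13 : List ℕ := [8, 6]
/-- the pair `13` -/
def b13 : List ℕ := [28, 43, 36, 37]
theorem ck13 : checkScalar C (cw L (rp 13 (cm a13 b13))) 1 0 52 = true := by (delta checkScalar; rewrite [Cfsg.Agent.PFd2b50afa.sK]; decide +kernel)
theorem iv13 : iv (cm a13 b13) = (24, 24) := by decide +kernel

/-- the pair `26` -/
def a26 : List ℕ := [41, 1, 14]
/-- the pair `26` -/
def b26 : List ℕ := [3, 34, 43]
theorem ck26 : checkScalar C (cw L (rp 13 (cm a26 b26))) 6 0 52 = true := by (delta checkScalar; rewrite [Cfsg.Agent.PFd2b50afa.sK]; decide +kernel)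
theorem iv26 : iv (cm a26 b26) = (24, 24) := by decide +kernel

/-- the pair `17` -/
def a17 : List ℕ := [16, 19]
/-- the pair `17` -/
def b17 : List ℕ := [40, 28, 30, 6]
theorem ck17 : checkScalar C (cw L (rp 17 (cm a17 b17))) 1 0 52 = true := by (delta checkScalar; rewrite [Cfsg.Agent.PFd2b50afa.sK]; decide +kernel)
theorem iv17 : iv (cm a17 b17) = (24, 24) := by decide +kernel

/-- the pair `34` -/
def a34 : List ℕ := [22, 7, 43]
/-- the pair `34` -/
def b34 : List ℕ := [12, 46, 28]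
theorem ck34 : checkScalar C (cw L (rp 17 (cm a34 b34))) 6 0 52 = true := by (delta checkScalar; rewrite [Cfsg.Agent.PFd2b50afa.sK]; decide +kernel)
theorem iv34 : iv (cm a34 b34) = (24, 24) := by decide +kernel

/-- the pair `21` -/
def a21 : List ℕ := [23, 3, 44]
/-- the pair `21` -/
def b21 : List ℕ := [31, 42, 10]
theorem ck21 : checkScalar C (cw L (rp 21 (cm a21 b21))) 1 0 52 = true := by (delta checkScalar; rewrite [Cfsg.Agent.PFd2b50afa.sK]; decide +kernel)
/-- the pair `21b` -/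
def a21b : List ℕ := [14, 0, 47]
/-- the pair `21b` -/
def b21b : List ℕ := [35, 36, 15]
theorem ck21b : checkScalar C (cw L (rp 21 (cm a21b b21b))) 1 0 52 = true := by (delta checkScalar; rewrite [Cfsg.Agent.PFd2b50afa.sK]; decide +kernel)
/-- the pair `42` -/
def a42 : List ℕ := [14, 46, 15]
/-- the pair `42` -/
def b42 : List ℕ := [17, 44, 6, 28]
theorem ck42 : checkScalar C (cw L (rp 21 (cm a42 b42))) 6 0 52 = true := by (delta checkScalar; rewrite [Cfsg.Agent.PFd2b50afa.sK]; decide +kernel)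
/-- the pair `42b` -/
def a42b : List ℕ := [23, 40, 10]
/-- the pair `42b` -/
def b42b : List ℕ := [19, 47, 18, 30]
theorem ck42b : checkScalar C (cw L (rp 21 (cm a42b b42b))) 6 0 52 = true := by (delta checkScalar; rewrite [Cfsg.Agent.PFd2b50afa.sK]; decide +kernel)

/-! ### the elements of `F₄(2)` -/

theorem iv21t : iv (rp 3 (cm a21 b21)) = (18, 24) := by decide +kernel
theorem iv21s : iv (rp 7 (cm a21 b21)) = (18, 12) := by decide +kernel
theorem iv42t : iv (rp 3 (cm a42 b42)) = (24, 18) := by decide +kernel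
theorem iv42s : iv (rp 7 (cm a42 b42)) = (12, 18) := by decide +kernel

section

variable {Γ : Type u} [Group Γ] (K : Cov Γ)

include K in
/-- order of a word -/
theorem orderOf_prime {w : List ℕ} (hw : okw w) {p : ℕ} (hp : p.Prime) {c : ℕ} (hc : c = 1 ∨ c = 6)
    (h : checkScalar C (cw L (rp p w)) c 0 52 = true) (hi : iv w = (24, 24)) : orderOf (wd w) = p := by
  have : Fact p.Prime := ⟨hp⟩
  refine orderOf_eq_prime (pow_wd K hw ?_) (wd_ne_one hw hi (by decide))
  rw [← WX_rp]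
  rcases hc with rfl | rfl
  · exact Or.inl (WX_one (okw_rp hw p) h)
  · exact Or.inr (WX_neg (okw_rp hw p) h)

include K in
theorem orderOf_21 {w : List ℕ} (hw : okw w) {c : ℕ} (hc : c = 1 ∨ c = 6)
    (h : checkScalar C (cw L (rp 21 w)) c 0 52 = true) {p q : ℕ × ℕ} (h3 : iv (rp 3 w) = p) (h7 : iv (rp 7 w) = q)
    (hp : p ≠ (0, 0)) (hq : q ≠ (0, 0)) : orderOf (wd w) = 21 := by
  refine orderOf_eq_of_pow_and_pow_div_prime (by norm_num) (pow_wd K hw ?_) fun r hr hd => ?_
  · rw [← WX_rp]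
    rcases hc with rfl | rfl
    · exact Or.inl (WX_one (okw_rp hw 21) h)
    · exact Or.inr (WX_neg (okw_rp hw 21) h)
  · have h1 : r = 3 ∨ r = 7 := by
      have h2 : r ∣ 3 * 7 := hd
      rcases (Nat.Prime.dvd_mul hr).1 h2 with h4 | h4
      · exact Or.inl ((Nat.prime_dvd_prime_iff_eq hr (by norm_num)).1 h4)
      · exact Or.inr ((Nat.prime_dvd_prime_iff_eq hr (by norm_num)).1 h4)
    rcases h1 with rfl | rfl
    · have e : 21 / 3 = 7 := rfl
      rw [e, ← wd_rp]
      exact wd_ne_one (okw_rp hw 7) h7 hq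
    · have e : 21 / 7 = 3 := rfl
      rw [e, ← wd_rp]
      exact wd_ne_one (okw_rp hw 3) h3 hp

/-- a commutator with given sign -/
theorem exists_c {a b : List ℕ} (ha : okw a) (hb : okw b) (hw : okw (cm a b)) {n c : ℕ} {s : U C}
    (hc : (c = 1 ∧ s = 1) ∨ (c = 6 ∧ s = -1)) (h : checkScalar C (cw L (rp n (cm a b))) c 0 52 = true) :
    ∃ g : Γ, IsC g ∧ K.σ g = wd (cm a b) ∧ K.ι g ^ n = s := by
  obtain ⟨g, h1, h2, h3⟩ := K.hcomm ha hb
  refine ⟨g, h1, h2, ?_⟩
  rw [h3, ← WX_rp]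
  rcases hc with ⟨rfl, rfl⟩ | ⟨rfl, rfl⟩
  · exact WX_one (okw_rp hw n) h
  · exact WX_neg (okw_rp hw n) h

/-- **both lifts of the elements of order 13** -/
theorem isC_13 (h13 : ∀ g h : LL, orderOf g = 13 → orderOf h = 13 → IsConj g h) {g : Γ} (hg : orderOf (K.σ g) = 13) :
    IsC g := by
  rcases K.pow_eq hg with e | e
  · obtain ⟨c, h1, h2, h3⟩ := exists_c K (a := a13) (b := b13) (by decide) (by decide) (by decide)
      (Or.inl ⟨rfl, rfl⟩) ck13
    refine K.isC_of_pow (by decide) h1 (Or.inl rfl) h3 e (h13 _ _ hg ?_)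
    rw [h2]
    exact orderOf_prime K (by decide) (by norm_num) (Or.inl rfl) ck13 iv13
  · obtain ⟨c, h1, h2, h3⟩ := exists_c K (a := a26) (b := b26) (by decide) (by decide) (by decide)
      (Or.inr ⟨rfl, rfl⟩) ck26
    refine K.isC_of_pow (by decide) h1 (Or.inr rfl) h3 e (h13 _ _ hg ?_)
    rw [h2]
    exact orderOf_prime K (by decide) (by norm_num) (Or.inr rfl) ck26 iv26

/-- cubes -/
theorem cube_step [Finite Γ] {c g : Γ} {n : ℕ} (hn : Odd n) (h3 : Nat.Coprime 3 (2 * n)) (hc : IsC c) {s : U C}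
    (hs : s = 1 ∨ s = -1) (h1 : K.ι c ^ n = s) (h2 : K.ι g ^ n = s)
    (h : IsConj (K.σ g) (K.σ c) ∨ IsConj (K.σ g) (K.σ c ^ 3)) : IsC g := by
  rcases h with h | h
  · exact K.isC_of_pow hn hc hs h1 h2 h
  · rw [← map_pow] at h
    have h4 : c ^ (2 * n) = 1 := by
      apply K.inj
      rw [map_pow, map_one, mul_comm, pow_mul, h1]
      rcases hs with rfl | rfl
      · rw [one_pow]
      · rw [neg_one_sq]
    refine K.isC_of_pow hn (Honda.isC_pow hc (k := 3) (Nat.Coprime.coprime_dvd_right (orderOf_dvd_of_pow_eq_one h4) h3))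
      hs ?_ h2 h
    rw [map_pow, ← pow_mul, mul_comm, pow_mul, h1]
    rcases hs with rfl | rfl
    · rw [one_pow]
    · exact gen_odd (M := U C) (by decide) (one_pow 3)

/-- **both lifts of the elements of order 17** -/
theorem isC_17 [Finite Γ] (h17 : ∀ g h : LL, orderOf g = 17 → orderOf h = 17 → IsConj g h ∨ IsConj g (h ^ 3)) {g : Γ}
    (hg : orderOf (K.σ g) = 17) : IsC g := by
  rcases K.pow_eq hg with e | e
  · obtain ⟨c, h1, h2, h3⟩ := exists_c K (a := a17) (b := b17) (by decide) (by decide) (by decide)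
      (Or.inl ⟨rfl, rfl⟩) ck17
    refine cube_step K (by decide) (by decide) h1 (Or.inl rfl) h3 e (h17 _ _ hg ?_)
    rw [h2]
    exact orderOf_prime K (by decide) (by norm_num) (Or.inl rfl) ck17 iv17
  · obtain ⟨c, h1, h2, h3⟩ := exists_c K (a := a34) (b := b34) (by decide) (by decide) (by decide)
      (Or.inr ⟨rfl, rfl⟩) ck34
    refine cube_step K (by decide) (by decide) h1 (Or.inr rfl) h3 e (h17 _ _ hg ?_)
    rw [h2]
    exact orderOf_prime K (by decide) (by norm_num) (Or.inr rfl) ck34 iv34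

theorem gamma_wd {α : LL ≃* LL} (hα : ∀ r < 48, α (x r) = x (bar r)) : ∀ {w : List ℕ}, (∀ r ∈ w, r < 48) →
    α (wd w) = wd (w.map bar)
  | [], _ => by rw [List.map_nil, wd_nil, map_one]
  | r :: w, h => by
    rw [List.map_cons, wd_cons, wd_cons, map_mul, hα r (h r List.mem_cons_self),
      gamma_wd hα fun s hs => h s (List.mem_cons_of_mem _ hs)]

/-- **both lifts of the elements of order 21** -/
theorem isC_21 {α : LL ≃* LL} (hα : ∀ r < 48, α (x r) = x (bar r))
    (h21 : ∀ g h : LL, orderOf g = 21 → orderOf h = 21 → IsConj g h ∨ IsConj g (α h)) {g : Γ}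
    (hg : orderOf (K.σ g) = 21) : IsC g := by
  rcases K.pow_eq hg with e | e
  · obtain ⟨c, h1, h2, h3⟩ := exists_c K (a := a21) (b := b21) (by decide) (by decide) (by decide)
      (Or.inl ⟨rfl, rfl⟩) ck21
    obtain ⟨c', h1', h2', h3'⟩ := exists_c K (a := a21b) (b := b21b) (by decide) (by decide) (by decide)
      (Or.inl ⟨rfl, rfl⟩) ck21b
    have ho := orderOf_21 K (w := cm a21 b21) (by decide) (Or.inl rfl) ck21 iv21t iv21s (by decide) (by decide)
    rcases h21 _ _ hg ho with h | h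
    · exact K.isC_of_pow (by decide) h1 (Or.inl rfl) h3 e (by rw [h2]; exact h)
    · refine K.isC_of_pow (by decide) h1' (Or.inl rfl) h3' e ?_
      rw [h2']
      rwa [gamma_wd hα (okw.lt (w := cm a21 b21) (by decide)), show (cm a21 b21).map bar = cm a21b b21b by decide] at h
  · obtain ⟨c, h1, h2, h3⟩ := exists_c K (a := a42) (b := b42) (by decide) (by decide) (by decide)
      (Or.inr ⟨rfl, rfl⟩) ck42
    obtain ⟨c', h1', h2', h3'⟩ := exists_c K (a := a42b) (b := b42b) (by decide) (by decide) (by decide)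
      (Or.inr ⟨rfl, rfl⟩) ck42b
    have ho := orderOf_21 K (w := cm a42 b42) (by decide) (Or.inr rfl) ck42 iv42t iv42s (by decide) (by decide)
    rcases h21 _ _ hg ho with h | h
    · exact K.isC_of_pow (by decide) h1 (Or.inr rfl) h3 e (by rw [h2]; exact h)
    · refine K.isC_of_pow (by decide) h1' (Or.inr rfl) h3' e ?_
      rw [h2']
      rwa [gamma_wd hα (okw.lt (w := cm a42 b42) (by decide)), show (cm a42 b42).map bar = cm a42b b42b by decide] at h

end

end Cfsg.Agent.H763.TwoF4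
end

-- part: H763/TwoF4/Cover
section
/-!
# The double cover of `F₄(2)` as a `Cov` (helper763)

`exists_cov` : a finite perfect central extension of `F₄(2)` with kernel of order 2 in `GL₅₂(7)`; `rowA_of` : Ore's theorem
for the covers of `F₄(2)` from `AllC` of such a group.
-/

set_option autoImplicit false
set_option maxRecDepth 10000

namespace Cfsg.Agent.H763.TwoF4

open Cfsg.Lie Cfsg.Agent.Lib.PackMat Cfsg.Agent.Lib.PackMatGroup Cfsg.Agent.FourTwo.Base Cfsg.Agent.FourTwo.Comm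
open Cfsg.Agent.H65.F4T Cfsg.Agent.H777.Ore Cfsg.Agent.H51.Mult Cfsg.Agent.H6.QO
open scoped commutatorElement

/-- **the double cover** -/
theorem exists_cov : ∃ (Γ : Type) (_ : Group Γ) (_ : Finite Γ) (K : Cov Γ), PCE K.σ ∧ Nat.card K.σ.ker = 2 := by
  obtain ⟨φ, hφ⟩ := exists_phi
  have hinj := phi_inj hφ
  let Γ : Subgroup (U C) := φ.range.comap q
  let ρ : Γ →* φ.range := (q.comp Γ.subtype).codRestrict φ.range fun g => g.2
  let σ : Γ →* LL := (MonoidHom.ofInjective hinj).symm.toMonoidHom.comp ρ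
  have hσ : ∀ g : Γ, φ (σ g) = q (g : U C) := by
    intro g
    have h1 : MonoidHom.ofInjective hinj (σ g) = ρ g := MulEquiv.apply_symm_apply _ _
    exact congrArg Subtype.val h1
  have hsurj : Function.Surjective σ := by
    intro y
    obtain ⟨g, hg⟩ := QuotientGroup.mk'_surjective NN (φ y)
    refine ⟨⟨g, ⟨y, hg.symm⟩⟩, hinj ?_⟩
    rw [hσ]
    exact hg
  have hker : ∀ g : Γ, g ∈ σ.ker ↔ (g : U C) = 1 ∨ (g : U C) = -1 := by
    intro g
    rw [← q_eq_one, ← hσ, MonoidHom.mem_ker, ← map_one φ]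
    exact hinj.eq_iff.symm
  have hneg : (-1 : U C) ∈ Γ := by
    show q (-1) ∈ φ.range
    rw [(q_eq_one).2 (Or.inr rfl)]
    exact one_mem _
  have hX : ∀ r < 48, X r ∈ Γ := by
    intro r hr
    show q (X r) ∈ φ.range
    exact ⟨x r, hφ r hr⟩
  have hc : σ.ker ≤ Subgroup.center Γ := by
    intro g hg
    rw [Subgroup.mem_center_iff]
    intro h
    apply Subtype.ext
    rw [Subgroup.coe_mul, Subgroup.coe_mul]
    rcases (hker g).1 hg with e | e <;> rw [e]
    · rw [one_mul, mul_one]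
    · exact (neg_one_cen _).symm
  have hk : σ.ker ≤ commutator Γ := by
    intro g hg
    have h1 : (-1 : U C) ∈ (commutator Γ).map Γ.subtype := by
      apply neg_one_mem
      intro r hr s hs
      refine ⟨⁅(⟨X r, hX r hr⟩ : Γ), ⟨X s, hX s hs⟩⁆, ?_, ?_⟩
      · exact Subgroup.commutator_mem_commutator (Subgroup.mem_top _) (Subgroup.mem_top _)
      · rw [map_commutatorElement]; rfl
    obtain ⟨k, hk, hk'⟩ := h1
    rcases (hker g).1 hg with e | e
    · rw [show g = 1 from Subtype.ext e]; exact one_mem _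
    · rw [show g = k from Subtype.ext (by rw [e, ← hk']; rfl)]; exact hk
  have hperf : commutator Γ = ⊤ := by
    have := simple_LL
    have hp : commutator LL = ⊤ := by
      refine (IsSimpleGroup.eq_bot_or_eq_top_of_normal (commutator LL) inferInstance).resolve_left fun h => ?_
      apply (Cfsg.Agent.S1054.result (F := ZMod 2) chevF4 (by simp)).2
      refine ⟨⟨fun a b => ?_⟩⟩
      have h1 : ⁅a, b⁆ ∈ commutator LL := Subgroup.commutator_mem_commutator (Subgroup.mem_top _) (Subgroup.mem_top _)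
      rw [h, Subgroup.mem_bot, commutatorElement_eq_one_iff_mul_comm] at h1
      exact h1
    have h1 : (commutator Γ).map σ = ⊤ := by
      rw [commutator_def, Subgroup.map_commutator, ← MonoidHom.range_eq_map, MonoidHom.range_eq_top.2 hsurj,
        ← commutator_def, hp]
    rw [eq_top_iff]
    intro g _
    obtain ⟨c, hc1, hc2⟩ : σ g ∈ (commutator Γ).map σ := h1 ▸ Subgroup.mem_top _
    have h2 : c⁻¹ * g ∈ σ.ker := by rw [MonoidHom.mem_ker, map_mul, map_inv, hc2, inv_mul_cancel]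
    have h3 := mul_mem hc1 (hk h2)
    rwa [mul_inv_cancel_left] at h3
  refine ⟨Γ, inferInstance, inferInstance,
    Cov.mk' Γ.subtype Γ.subtype_injective σ hsurj φ hφ hinj hσ, ⟨hsurj, hc, hperf⟩, ?_⟩
  have h1 : ∀ g : σ.ker, g = 1 ∨ g = ⟨⟨-1, hneg⟩, (hker _).2 (Or.inr rfl)⟩ := by
    rintro ⟨g, hg⟩
    rcases (hker g).1 hg with e | e
    · exact Or.inl (Subtype.ext (Subtype.ext e))
    · exact Or.inr (Subtype.ext (Subtype.ext e))
  have h2 : (1 : σ.ker) ≠ ⟨⟨-1, hneg⟩, (hker _).2 (Or.inr rfl)⟩ := by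
    intro h
    exact neg_one_ne (congrArg (fun g : σ.ker => ((g : Γ) : U C)) h).symm
  rw [Nat.card_eq_two_iff]
  exact ⟨1, _, h2, Set.eq_univ_of_forall fun g => by
    rcases h1 g with e | e
    · exact Or.inl e
    · exact Or.inr e⟩

/-- **the row from `AllC` of the double cover** -/
theorem rowA_of (h : ∀ (Γ : Type) [Group Γ] [Finite Γ] (K : Cov Γ), PCE K.σ → Nat.card K.σ.ker = 2 → AllC Γ) :
    RowA LL := by
  obtain ⟨Γ, _, _, K, h1, h2⟩ := exists_cov
  exact RowA.of_univ (hasMult_LL) h1 (by rw [h2]; simp) (h Γ K h1 h2)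

theorem ckZ : checkScalar C (cw L (cm [43, 30, 18] [33, 40, 18, 21])) 6 0 52 = true := by (delta checkScalar; rewrite [Cfsg.Agent.PFd2b50afa.sK]; decide +kernel)

/-- **the central element is a commutator** -/
theorem isC_neg {Γ : Type*} [Group Γ] (K : Cov Γ) {g : Γ} (hg : K.ι g = -1) : IsC g := by
  obtain ⟨c, h1, -, h3⟩ := K.hcomm (a := [43, 30, 18]) (b := [33, 40, 18, 21]) (by decide) (by decide)
  rw [WX_neg (by decide) ckZ, ← hg] at h3
  rw [← K.inj h3]
  exact h1

/-- the elements of the kernel are commutators -/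
theorem isC_ker {Γ : Type*} [Group Γ] (K : Cov Γ) {g : Γ} (hg : K.σ g = 1) : IsC g := by
  rcases (K.hk g).1 hg with h | h
  · rw [K.inj (h.trans (map_one K.ι).symm)]
    exact ⟨1, 1, by group⟩
  · exact isC_neg K h

end Cfsg.Agent.H763.TwoF4
end

-- part: H374/QS/FF/Main
section
/-!
# 2.F₄(2): every element is a commutator (helper374)

`isComm_par` : the elements over `P_s ∖ Q_s` (for every perfect central extension with kernel of order 2);
`allC_of`, `rowA_of` : the row from the number of odd classes (`H326.F4C.H16`).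
-/

set_option autoImplicit false

namespace Cfsg.Agent.H374.QS.FF

open Cfsg.Lie Cfsg.Agent.H612.Ore Cfsg.Agent.H6.ORE Cfsg.Agent.H777.Ore Cfsg.Agent.H51.Mult Cfsg.Agent.H6.QO
open Cfsg.Agent.FourTwo.Comm Cfsg.Agent.FourTwo.Par
open Cfsg.Agent.FourTwo.Cent (psP plP Ps Pl)
open Cfsg.Agent.FourTwo.CentAll (isShort)
open Cfsg.Agent.FourTwo.Lift (Ext Sys wA wA_nil wA_cons)
open Cfsg.Agent.FourTwo.Base (LL x bar exists_graph)

universe u

section

variable {Γ : Type u} [Group Γ] {π : Γ →* LL}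

/-- the signed lifts -/
def BB (A : ℕ → Γ) (m : Γ) (r : ℕ) : Γ := sz m (isShort r) * A r

theorem wb_BB {A : ℕ → Γ} {m : Γ} (S : Sys π A m) (w : List ℕ) :
    wb (BB A m) w = sz m (w.countP isShort % 2 == 1) * wA A w := by
  have hz : ∀ (e : Bool) (g : Γ), sz m e * g = g * sz m e := by
    intro e g
    cases e
    · rw [sz_false, one_mul, mul_one]
    · rw [sz_true, S.m_cen]
  induction w with
  | nil => rw [wb_nil, wA_nil, List.countP_nil]; simp [sz]
  | cons r w ih =>
    rw [wb_cons, ih, wA_cons, BB, List.countP_cons]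
    have e : sz m (isShort r) * A r * (sz m (w.countP isShort % 2 == 1) * wA A w) =
        sz m (isShort r) * sz m (w.countP isShort % 2 == 1) * (A r * wA A w) := by
      rw [mul_assoc, ← mul_assoc (A r), ← hz _ (A r)]; group
    rw [e]
    congr 1
    rcases Nat.mod_two_eq_zero_or_one (w.countP isShort) with h | h <;> cases hr : isShort r
    · simp [sz, h]
    · simp [sz, h, Nat.add_mod]
    · simp [sz, h]
    · simp [sz, h, Nat.add_mod, S.m_sq]

theorem sz_cen {A : ℕ → Γ} {m : Γ} (S : Sys π A m) (e : Bool) (g : Γ) : sz m e * g = g * sz m e := by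
  cases e
  · rw [sz_false, one_mul, mul_one]
  · rw [sz_true, S.m_cen]

theorem sz_ker {A : ℕ → Γ} {m : Γ} (S : Sys π A m) (e : Bool) : π (sz m e) = 1 := by
  cases e
  · rw [sz_false, map_one]
  · rw [sz_true, S.m_ker]

theorem sz_sq {A : ℕ → Γ} {m : Γ} (S : Sys π A m) (e : Bool) : sz m e * sz m e = 1 := by
  cases e
  · rw [sz_false, one_mul]
  · rw [sz_true, S.m_sq]

theorem BB_cj {A : ℕ → Γ} {m : Γ} (S : Sys π A m) {r s : ℕ} (hr : r < 48) (hs : s < 48) (h1 : r ≠ s)
    (h2 : r + s ≠ 47) : BB A m r * BB A m s * (BB A m r)⁻¹ = sz m (sgB r s) * wb (BB A m) (s :: cmg r s) := by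
  have hlen := Cfsg.Agent.F42.RelTab.all2_spec Cfsg.Agent.FourTwo.Lift.len_tab hr hs
  rw [Nat.ble_eq] at hlen
  have e1 : BB A m r * BB A m s * (BB A m r)⁻¹ = sz m (isShort s) * (A r * A s * (A r)⁻¹) := by
    unfold BB
    calc sz m (isShort r) * A r * (sz m (isShort s) * A s) * (sz m (isShort r) * A r)⁻¹
        = sz m (isShort r) * (A r * sz m (isShort s)) * A s * (sz m (isShort r) * A r)⁻¹ := by group
      _ = sz m (isShort r) * (sz m (isShort s) * A r) * A s * (sz m (isShort r) * A r)⁻¹ := by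
          rw [← sz_cen S (isShort s) (A r)]
      _ = (sz m (isShort r) * sz m (isShort s)) * A r * A s * (A r)⁻¹ * (sz m (isShort r))⁻¹ := by group
      _ = (sz m (isShort s) * sz m (isShort r)) * A r * A s * (A r)⁻¹ * (sz m (isShort r))⁻¹ := by
          rw [sz_cen S (isShort r)]
      _ = sz m (isShort s) * (sz m (isShort r) * (A r * A s * (A r)⁻¹)) * (sz m (isShort r))⁻¹ := by group
      _ = sz m (isShort s) * ((A r * A s * (A r)⁻¹) * sz m (isShort r)) * (sz m (isShort r))⁻¹ := by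
          rw [sz_cen S (isShort r) (A r * A s * (A r)⁻¹)]
      _ = _ := by group
  rw [e1, wb_cons, wb_BB S, BB]
  have e2 : sz m (sgB r s) * (sz m (isShort s) * A s *
      (sz m ((cmg r s).countP isShort % 2 == 1) * wA A (cmg r s))) =
      (sz m (sgB r s) * sz m ((cmg r s).countP isShort % 2 == 1)) * sz m (isShort s) * (A s * wA A (cmg r s)) := by
    obtain ⟨X, hX⟩ : ∃ X, X = sz m ((cmg r s).countP isShort % 2 == 1) := ⟨_, rfl⟩
    have hXc : ∀ g, X * g = g * X := by intro g; rw [hX]; exact sz_cen S _ g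
    rw [← hX]
    calc sz m (sgB r s) * (sz m (isShort s) * A s * (X * wA A (cmg r s)))
        = sz m (sgB r s) * (sz m (isShort s) * A s * X) * wA A (cmg r s) := by group
      _ = sz m (sgB r s) * (X * (sz m (isShort s) * A s)) * wA A (cmg r s) := by rw [hXc]
      _ = _ := by group
  rw [e2]
  rcases Nat.lt_or_ge (cmg r s).length 2 with h3 | h3
  · have e3 : sgB r s = ((cmg r s).countP isShort % 2 == 1) := by
      unfold sgB
      rw [if_neg (by omega), add_zero]
    rw [e3, sz_sq S, one_mul, S.cm1 hr hs h1 h2 (by omega), mul_inv_cancel_right]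
  · have h4 : (cmg r s).length = 2 := by omega
    have e3 : sz m (sgB r s) * sz m ((cmg r s).countP isShort % 2 == 1) = m := by
      unfold sgB
      rw [if_pos h4]
      rcases Nat.mod_two_eq_zero_or_one ((cmg r s).countP isShort) with h | h
      · simp [sz, h, Nat.add_mod]
      · simp [sz, h, Nat.add_mod]
    rw [e3, S.cm2 hr hs h4, S.m_cen (sz m (isShort s))]
    have e4 : sz m (isShort s) * (m * (A s * wA A (cmg r s) * A r) * (A r)⁻¹) =
        sz m (isShort s) * m * (A s * wA A (cmg r s)) := by group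
    rw [e4]

private theorem _root_.Cfsg.Agent.KO52628ad.e15.{ku, kv} {α : Type kv} {M : List α → Sort ku} (φ : ∀ l, M l) {z : M List.nil} {s : ∀ a l, M l → M (List.cons a l)} (h0 : φ List.nil = z) (hs : ∀ a l, φ (List.cons a l) = s a l (φ l)) (l : List α) : φ l = @List.rec α M z s l := List.rec h0 (fun a l ih => (hs a l).trans (congrArg (s a l) ih)) l
private theorem _root_.Cfsg.Agent.KO52628ad.e18.{ku} {M : Nat → Sort ku} (φ : ∀ n, M n) {z : M Nat.zero} {s : ∀ n, M n → M (Nat.succ n)} (h0 : φ Nat.zero = z) (hs : ∀ n, φ (Nat.succ n) = s n (φ n)) (n : Nat) : φ n = @Nat.rec M z s n := Nat.rec h0 (fun n ih => (hs n).trans (congrArg (s n) ih)) n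
private noncomputable def _root_.Cfsg.Agent.KO52628ad.k25 : type_of% @Nat.decEq := @(fun x0 x1 => @Bool.rec.{1} @(fun x2 => (@Eq.{1} _ (@Nat.beq @x0 @x1) @x2) → @Decidable (@Eq.{1} _ @x0 @x1)) @(fun x2 => @Decidable.isFalse _ (@Nat.ne_of_beq_eq_false _ _ @x2)) @(fun x2 => @Decidable.isTrue _ (@Nat.eq_of_beq_eq_true _ _ @x2)) (@Nat.beq @x0 @x1) (@Eq.refl.{1} _ (@Nat.beq @x0 @x1)))
private theorem _root_.Cfsg.Agent.KO52628ad.e25 : @Nat.decEq = @_root_.Cfsg.Agent.KO52628ad.k25 := by delta _root_.Cfsg.Agent.KO52628ad.k25; rfl'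
private noncomputable def _root_.Cfsg.Agent.KO52628ad.k26 : type_of% @instDecidableEqNat := @Cfsg.Agent.KO52628ad.k25
private theorem _root_.Cfsg.Agent.KO52628ad.e26 : @instDecidableEqNat = @_root_.Cfsg.Agent.KO52628ad.k26 := by delta _root_.Cfsg.Agent.KO52628ad.k26; rewrite [← Cfsg.Agent.KO52628ad.e25]; rfl'
private noncomputable def _root_.Cfsg.Agent.KO52628ad.k33 : type_of% @List.range.loop := @(fun x0 x1 => @Nat.rec.{1} @(fun x2 => (@List.{0} ℕ) → @List.{0} ℕ) @(fun x2 => @x2) @(fun x2 x3 x4 => @x3 (@x2 :: @x4)) @x0 @x1)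
private theorem _root_.Cfsg.Agent.KO52628ad.e33 : @List.range.loop = @_root_.Cfsg.Agent.KO52628ad.k33 := by delta _root_.Cfsg.Agent.KO52628ad.k33; funext a0 a1; refine (congrFun (_root_.Cfsg.Agent.KO52628ad.e18 (fun a0 a1 => @List.range.loop a0 a1) ?_ (fun c0 => ?_) a0) a1 :) <;> (rfl')
private noncomputable def _root_.Cfsg.Agent.KO52628ad.k39 : (by first | exact type_of% @Cfsg.Agent.ChevalleyStructure.TwF4.Tables.nth | exact Unit : Sort _) := by first | (refine @Subtype.val _ (fun g => @Cfsg.Agent.ChevalleyStructure.TwF4.Tables.nth = @g) (@Subtype.mk _ _ (@(fun x0 x1 x2 => @List.rec.{1, 0} (@List.{0} @x0) @(fun x3 => ℕ → @List.{0} @x0) @(fun x3 => []) @(fun x3 x4 x5 x6 => @Nat.rec.{1} @(fun x7 => @List.{0} @x0) @x3 @(fun x7 x8 => @x5 @x7) @x6) @x1 @x2)) ?_); funext a0 a1 a2; refine (congrFun (_root_.Cfsg.Agent.KO52628ad.e15 (fun a1 a2 => @Cfsg.Agent.ChevalleyStructure.TwF4.Tables.nth a0 a1 a2) ?_ (fun c0 c1 => ?_) a1) a2 :) <;> [(funext b0; (rfl'));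 (funext b0; (cases b0 with | @zero  => (rfl') | @succ b0_0 => (rfl')))]) | exact @Cfsg.Agent.ChevalleyStructure.TwF4.Tables.nth | exact ()
private theorem _root_.Cfsg.Agent.KO52628ad.e39 : (by first | exact @Cfsg.Agent.ChevalleyStructure.TwF4.Tables.nth = @_root_.Cfsg.Agent.KO52628ad.k39 | exact True : Prop) := by first | (delta _root_.Cfsg.Agent.KO52628ad.k39; exact @Subtype.property _ (fun g => @Cfsg.Agent.ChevalleyStructure.TwF4.Tables.nth = @g) _) | rfl | trivial
private noncomputable def _root_.Cfsg.Agent.KO52628ad.k43.{ku0} : type_of% @List.all.{ku0} := @(fun x0 x1 x2 => @List.rec.{(ku0+1), ku0} @x0 @(fun x3 => (@x0 → @Bool) → @Bool) @(fun x3 => @Bool.true) @(fun x3 x4 x5 x6 => @Bool.rec.{1} @(fun x7 => @Bool) @Bool.false (@x5 @x6) (@x6 @x3)) @x1 @x2)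
private theorem _root_.Cfsg.Agent.KO52628ad.e43.{ku0} : @List.all.{ku0} = @_root_.Cfsg.Agent.KO52628ad.k43.{ku0} := by delta _root_.Cfsg.Agent.KO52628ad.k43; funext a0 a1 a2; refine (congrFun (_root_.Cfsg.Agent.KO52628ad.e15 (fun a1 a2 => @List.all.{ku0} a0 a1 a2) ?_ (fun c0 c1 => ?_) a1) a2 :) <;> (rfl')
private noncomputable def _root_.Cfsg.Agent.KO52628ad.k44 : type_of% @List.range := @(fun x0 => @Cfsg.Agent.KO52628ad.k33 @x0 [])
private theorem _root_.Cfsg.Agent.KO52628ad.e44 : @List.range = @_root_.Cfsg.Agent.KO52628ad.k44 := by delta _root_.Cfsg.Agent.KO52628ad.k44; rewrite [← Cfsg.Agent.KO52628ad.e33]; rfl'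
private noncomputable def _root_.Cfsg.Agent.KO52628ad.k45 : type_of% @Bool.or := @(fun x0 x1 => @Bool.rec.{1} @(fun x2 => @Bool) @x1 @Bool.true @x0)
private theorem _root_.Cfsg.Agent.KO52628ad.e45 : @Bool.or = @_root_.Cfsg.Agent.KO52628ad.k45 := by delta _root_.Cfsg.Agent.KO52628ad.k45; rfl'
private noncomputable def _root_.Cfsg.Agent.KO52628ad.k47 : (by first | exact type_of% @Cfsg.Agent.ChevalleyStructure.TwF4.Rel.nth2 | exact Unit : Sort _) := by first | (refine @Subtype.val _ (fun g => @Cfsg.Agent.ChevalleyStructure.TwF4.Rel.nth2 = @g) (@Subtype.mk _ _ (@(fun x0 x1 x2 => @List.rec.{1, 0} (@List.{0} (@List.{0} @x0)) @(fun x3 => ℕ → @List.{0} (@List.{0} @x0)) @(fun x3 => []) @(fun x3 x4 x5 x6 => @Nat.rec.{1} @(fun x7 => @List.{0} (@List.{0} @x0)) @x3 @(fun x7 x8 => @x5 @x7) @x6) @x1 @x2)) ?_); funext a0 a1 a2; refine (congrFun (_root_.Cfsg.Agent.KO52628ad.e15 (fun a1 a2 => @Cfsg.Agent.ChevalleyStructure.TwF4.Rel.nth2 a0 a1 a2) ?_ (fun c0 c1 =>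 ?_) a1) a2 :) <;> [(funext b0; (rfl')); (funext b0; (cases b0 with | @zero  => (rfl') | @succ b0_0 => (rfl')))]) | exact @Cfsg.Agent.ChevalleyStructure.TwF4.Rel.nth2 | exact ()
private theorem _root_.Cfsg.Agent.KO52628ad.e47 : (by first | exact @Cfsg.Agent.ChevalleyStructure.TwF4.Rel.nth2 = @_root_.Cfsg.Agent.KO52628ad.k47 | exact True : Prop) := by first | (delta _root_.Cfsg.Agent.KO52628ad.k47; exact @Subtype.property _ (fun g => @Cfsg.Agent.ChevalleyStructure.TwF4.Rel.nth2 = @g) _) | rfl | trivial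
private noncomputable def _root_.Cfsg.Agent.KO52628ad.k48 : (by first | exact type_of% @Cfsg.Agent.FourTwo.Comm.cmg | exact Unit : Sort _) := by first | (refine @Subtype.val _ (fun g => @Cfsg.Agent.FourTwo.Comm.cmg = @g) (@Subtype.mk _ _ (@(fun x0 x1 => @Cfsg.Agent.KO52628ad.k39 _ (@Cfsg.Agent.KO52628ad.k47 _ @Cfsg.Agent.FourTwo.Comm.cmgT @x0) @x1)) ?_); rewrite [← Cfsg.Agent.KO52628ad.e47, ← Cfsg.Agent.KO52628ad.e39]; (try delta Cfsg.Agent.FourTwo.Comm.cmg); (try generalize @Cfsg.Agent.ChevalleyStructure.TwF4.Tables.nth = g0); (try generalize @Cfsg.Agent.ChevalleyStructure.TwF4.Rel.nth2 = g1); (try generalize @Cfsg.Agent.FourTwo.Comm.cmgT = g2); rfl') | exact @Cfsg.Agent.FourTwo.Comm.cmg | exact ()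
private theorem _root_.Cfsg.Agent.KO52628ad.e48 : (by first | exact @Cfsg.Agent.FourTwo.Comm.cmg = @_root_.Cfsg.Agent.KO52628ad.k48 | exact True : Prop) := by first | (delta _root_.Cfsg.Agent.KO52628ad.k48; exact @Subtype.property _ (fun g => @Cfsg.Agent.FourTwo.Comm.cmg = @g) _) | rfl | trivial
private noncomputable def _root_.Cfsg.Agent.KO52628ad.k49 : type_of% @Bool.and := @(fun x0 x1 => @Bool.rec.{1} @(fun x2 => @Bool) @Bool.false @x1 @x0)
private theorem _root_.Cfsg.Agent.KO52628ad.e49 : @Bool.and = @_root_.Cfsg.Agent.KO52628ad.k49 := by delta _root_.Cfsg.Agent.KO52628ad.k49; rfl'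

/-- the letters of `P_s` -/
theorem ps_tab : ((List.range 33).all fun i => (List.range 33).all fun j => i == j || (15 + i) + (15 + j) == 47 ||
    (cmg (15 + i) (15 + j)).all fun c => Nat.ble 15 c && Nat.blt c 48) = true := by (first | (rewrite [Cfsg.Agent.KO52628ad.e43.{0}, Cfsg.Agent.KO52628ad.e44, Cfsg.Agent.KO52628ad.e45, Cfsg.Agent.KO52628ad.e26, Cfsg.Agent.KO52628ad.e48, Cfsg.Agent.KO52628ad.e49]; decide +kernel) | decide +kernel)

theorem ps_letters {r s : ℕ} (h1 : 15 ≤ r) (h2 : r < 48) (h3 : 15 ≤ s) (h4 : s < 48) (h5 : r ≠ s) (h6 : r + s ≠ 47) :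
    ∀ c ∈ cmg r s, 15 ≤ c ∧ c < 48 := by
  have h := List.all_eq_true.1 (List.all_eq_true.1 ps_tab (r - 15) (List.mem_range.2 (by omega))) (s - 15)
    (List.mem_range.2 (by omega))
  rw [show 15 + (r - 15) = r by omega, show 15 + (s - 15) = s by omega, Bool.or_eq_true, Bool.or_eq_true, beq_iff_eq,
    beq_iff_eq, List.all_eq_true] at h
  intro c hc
  rcases h with (h | h) | h
  · omega
  · omega
  · have := h c hc
    rw [Bool.and_eq_true, Nat.ble_eq, Nat.blt_eq] at this
    exact this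

variable {A : ℕ → Γ} {m : Γ}

theorem BB_mem (S : Sys π A m) {r : ℕ} (h : 15 ≤ r ∧ r < 48) : BB A m r ∈ Ps.comap π := by
  show π (sz m (isShort r) * A r) ∈ Ps
  rw [map_mul, sz_ker S, one_mul, S.lift h.2]
  exact x_mem_RG h.2 (by unfold psP; simpa using h.1)

open Classical in
/-- the lifts in the preimage of `P_s` -/
noncomputable def bb (S : Sys π A m) (r : ℕ) : ↥(Ps.comap π) :=
  if h : 15 ≤ r ∧ r < 48 then ⟨BB A m r, BB_mem S h⟩ else 1

theorem coe_bb (S : Sys π A m) {r : ℕ} (h1 : 15 ≤ r) (h2 : r < 48) : ((bb S r : ↥(Ps.comap π)) : Γ) = BB A m r := by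
  unfold bb
  rw [dif_pos ⟨h1, h2⟩]

/-- the central element in the preimage of `P_s` -/
def mz (S : Sys π A m) : ↥(Ps.comap π) := ⟨m, by
  show π m ∈ Ps
  rw [S.m_ker]
  exact one_mem _⟩

theorem coe_sz (S : Sys π A m) (e : Bool) : ((sz (mz S) e : ↥(Ps.comap π)) : Γ) = sz m e := by
  cases e
  · rw [sz_false, sz_false]; rfl
  · rw [sz_true, sz_true]; rfl

theorem coe_wb (S : Sys π A m) {w : List ℕ} (h : ∀ c ∈ w, 15 ≤ c ∧ c < 48) :
    ((wb (bb S) w : ↥(Ps.comap π)) : Γ) = wb (BB A m) w := by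
  induction w with
  | nil => rw [wb_nil, wb_nil]; rfl
  | cons c w ih =>
    have hc := h c List.mem_cons_self
    rw [wb_cons, wb_cons, Subgroup.coe_mul, ih fun d hd => h d (List.mem_cons_of_mem _ hd), coe_bb S hc.1 hc.2]

theorem pd (S : Sys π A m) (hm : m ≠ 1) (hk : ∀ g, π g = 1 → g = 1 ∨ g = m) :
    PD (bb S) (mz S) (π.comp (Ps.comap π).subtype) where
  z1 := fun h => hm (congrArg Subtype.val h)
  z2 := Subtype.ext S.m_sq
  zc := fun g => Subtype.ext (S.m_cen g).symm
  fz := S.m_ker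
  sq := by
    intro r h1 h2
    apply Subtype.ext
    rw [Subgroup.coe_mul, coe_bb S h1 h2, BB]
    calc sz m (isShort r) * A r * (sz m (isShort r) * A r) = sz m (isShort r) * (A r * sz m (isShort r)) * A r := by group
      _ = sz m (isShort r) * (sz m (isShort r) * A r) * A r := by rw [sz_cen S _ (A r)]
      _ = (sz m (isShort r) * sz m (isShort r)) * (A r * A r) := by group
      _ = 1 := by rw [sz_sq S, S.sq h2, one_mul]
  cj := by
    intro r h1 h2 s h3 h4 h5 h6
    apply Subtype.ext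
    rw [Subgroup.coe_mul, Subgroup.coe_mul, Subgroup.coe_inv, Subgroup.coe_mul, coe_sz, coe_wb S, coe_bb S h1 h2,
      coe_bb S h3 h4]
    · exact BB_cj S h2 h4 h5 h6
    · intro c hc
      rcases List.mem_cons.1 hc with rfl | hc
      · exact ⟨h3, h4⟩
      · exact ps_letters h1 h2 h3 h4 h5 h6 c hc
  mp := by
    intro r h1 h2
    show π ((bb S r : ↥(Ps.comap π)) : Γ) = x r
    rw [coe_bb S h1 h2, BB, map_mul, sz_ker S, one_mul, S.lift h2]
  ker := by
    intro g hg
    rcases hk (g : Γ) hg with h | h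
    · exact Or.inl (Subtype.ext h)
    · exact Or.inr (Subtype.ext h)
  gen := by
    rw [eq_top_iff]
    intro g _
    obtain ⟨C, hC⟩ : ∃ C, C = Subgroup.closure ({g | ∃ r, 15 ≤ r ∧ r < 48 ∧ g = bb S r} ∪ {mz S}) := ⟨_, rfl⟩
    rw [← hC]
    have h1 : Ps ≤ C.map (π.comp (Ps.comap π).subtype) := RG_le fun r hr hp => by
      have h2 : 15 ≤ r := by unfold psP at hp; simpa using hp
      refine ⟨bb S r, ?_, ?_⟩
      · rw [hC]; exact Subgroup.subset_closure (Or.inl ⟨r, h2, hr, rfl⟩)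
      · show π ((bb S r : ↥(Ps.comap π)) : Γ) = x r
        rw [coe_bb S h2 hr, BB, map_mul, sz_ker S, one_mul, S.lift hr]
    obtain ⟨c, hc, e⟩ := h1 g.2
    have h2 : π ((c⁻¹ * g : ↥(Ps.comap π)) : Γ) = 1 := by
      rw [Subgroup.coe_mul, Subgroup.coe_inv, map_mul, map_inv]
      have e' : π (c : Γ) = π (g : Γ) := e
      rw [e', inv_mul_cancel]
    have h3 : mz S ∈ C := by rw [hC]; exact Subgroup.subset_closure (Or.inr rfl)
    have h4 : c⁻¹ * g ∈ C := by
      rcases hk _ h2 with h | h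
      · rw [show c⁻¹ * g = 1 from Subtype.ext h]; exact one_mem _
      · rw [show c⁻¹ * g = mz S from Subtype.ext h]; exact h3
    have h5 := mul_mem hc h4
    rwa [mul_inv_cancel_left] at h5

/-- **the elements over `P_s ∖ Q_s`** -/
theorem isComm_par [Finite Γ] (hπ : PCE π) (h2 : Nat.card π.ker = 2) {g : Γ} (hg : π g ∈ Ps) (hn : π g ∉ RG w33) :
    IsComm g := by
  have E : Ext π := ⟨hπ.surj, fun m hm g =>
    (Subgroup.mem_center_iff.1 (hπ.cen (MonoidHom.mem_ker.2 hm)) g).symm⟩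
  have hk : ∀ g, π g = 1 → g = 1 ∨ g = E.m₀ := fun g hg => Cfsg.Agent.FourTwo.Mult.ker_two E hπ.perf hg
  have hm : E.m₀ ≠ 1 := by
    intro h
    have h3 : ∀ g : π.ker, g = 1 := by
      intro g
      rcases hk g (MonoidHom.mem_ker.1 g.2) with e | e
      · exact Subtype.ext e
      · exact Subtype.ext (e.trans h)
    have h4 : Subsingleton π.ker := ⟨fun a b => by rw [h3 a, h3 b]⟩
    have h5 := Nat.card_of_subsingleton (1 : π.ker)
    omega
  have D := pd E.sys hm hk
  have h3 : IsComm (⟨g, hg⟩ : ↥(Ps.comap π)) := D.isComm hn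
  exact h3.map (Ps.comap π).subtype

end

/-! ### the second parabolic subgroup -/

theorem tabPl : ∀ r < 48, plP r = true → bar r < 48 ∧ psP (bar r) = true := by decide +kernel

theorem tabQl : ∀ r < 48, w33 r = true → bar r < 48 ∧ bar (bar r) = r ∧ Cfsg.Agent.H434.FF.ql (bar r) = true := by
  decide +kernel

theorem map_Pl {α : LL ≃* LL} (hα : ∀ r < 48, α (x r) = x (bar r)) {g : LL} (hg : g ∈ Pl) : α g ∈ Ps := by
  have h : Pl ≤ Ps.comap α.toMonoidHom := RG_le fun r hr hp => by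
    show α (x r) ∈ Ps
    rw [hα r hr]
    exact x_mem_RG (tabPl r hr hp).1 (tabPl r hr hp).2
  exact h hg

theorem map_ql {α : LL ≃* LL} (hα : ∀ r < 48, α (x r) = x (bar r)) {g : LL} (hg : α g ∈ RG w33) :
    g ∈ RG Cfsg.Agent.H434.FF.ql := by
  have h : RG w33 ≤ (RG Cfsg.Agent.H434.FF.ql).map α.toMonoidHom := RG_le fun r hr hp => by
    obtain ⟨h1, h2, h3⟩ := tabQl r hr hp
    refine ⟨x (bar r), x_mem_RG h1 h3, ?_⟩
    show α (x (bar r)) = x r
    rw [hα _ h1, h2]
  obtain ⟨y, hy, e⟩ := h hg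
  rw [← α.injective e]
  exact hy

theorem lev1 : Cfsg.Agent.H326.F4C.lev Cfsg.Agent.H326.F4C.s1 ≤ Ps := by
  unfold Cfsg.Agent.H326.F4C.lev
  rw [Subgroup.closure_le]
  rintro _ ⟨r, hr, rfl⟩
  have h : ∀ r ∈ Cfsg.Agent.H326.F4C.s1, r < 48 ∧ psP r = true := by decide
  exact x_mem_RG (h r hr).1 (h r hr).2

theorem lev2 : Cfsg.Agent.H326.F4C.lev Cfsg.Agent.H326.F4C.s2 ≤ Pl := by
  unfold Cfsg.Agent.H326.F4C.lev
  rw [Subgroup.closure_le]
  rintro _ ⟨r, hr, rfl⟩
  have h : ∀ r ∈ Cfsg.Agent.H326.F4C.s2, r < 48 ∧ plP r = true := by decide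
  exact x_mem_RG (h r hr).1 (h r hr).2

/-- **every element of the double cover is a commutator** -/
theorem allC_of (H : Cfsg.Agent.H326.F4C.H16) {Γ : Type} [Group Γ] [Finite Γ] (K : Cfsg.Agent.H763.TwoF4.Cov Γ)
    (hπ : PCE K.σ) (h2 : Nat.card K.σ.ker = 2) : AllC Γ := by
  intro g
  obtain ⟨α, hα⟩ := exists_graph
  by_cases h1 : K.σ g = 1
  · exact Cfsg.Agent.H763.TwoF4.isC_ker K h1
  have conj : ∀ y : LL, (∀ g' : Γ, K.σ g' = y * K.σ g * y⁻¹ → IsComm g') → IsC g := by
    intro y hy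
    obtain ⟨y', rfl⟩ := K.surj y
    have h3 := hy (y' * g * y'⁻¹) (by simp only [map_mul, map_inv])
    have h4 := h3.conj y'⁻¹
    rwa [show y'⁻¹ * (y' * g * y'⁻¹) * y'⁻¹⁻¹ = g by group] at h4
  have hker : (α.toMonoidHom.comp K.σ).ker = K.σ.ker := by
    ext k
    rw [MonoidHom.mem_ker, MonoidHom.mem_ker]
    show α (K.σ k) = 1 ↔ _
    rw [map_eq_one_iff α α.injective]
  have hπ' : PCE (α.toMonoidHom.comp K.σ) := ⟨α.surjective.comp hπ.surj, hker ▸ hπ.cen, hπ.perf⟩
  have par : (∃ y, y * K.σ g * y⁻¹ ∈ Ps ∨ y * K.σ g * y⁻¹ ∈ Pl) → IsC g := by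
    intro h
    rcases Cfsg.Agent.H434.FF.not_rad h1 h with ⟨y, h3, h4⟩ | ⟨y, h3, h4⟩
    · exact conj y fun g' e => isComm_par hπ h2 (by rw [e]; exact h3) (by rw [e]; exact h4)
    · refine conj y fun g' e => isComm_par hπ' (by rw [hker]; exact h2) ?_ ?_
      · show α (K.σ g') ∈ Ps
        rw [e]
        exact map_Pl hα h3
      · intro h5
        have h6 := map_ql hα h5
        rw [e] at h6
        exact h4 h6
  rcases Nat.even_or_odd (orderOf (K.σ g)) with he | ho
  · exact par (Cfsg.Agent.H824.Fs.exists_conj_par _ he)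
  · rcases Cfsg.Agent.H326.F4C.cases H ho with ⟨y, hy⟩ | ⟨y, hy⟩ | h | h | h
    · exact par ⟨y, Or.inl (lev1 hy)⟩
    · exact par ⟨y, Or.inr (lev2 hy)⟩
    · exact Cfsg.Agent.H763.TwoF4.isC_13 K (fun _ _ => Cfsg.Agent.H326.F4C.conj13 H) h
    · exact Cfsg.Agent.H763.TwoF4.isC_17 K (fun _ _ => Cfsg.Agent.H326.F4C.conj17 H) h
    · exact Cfsg.Agent.H763.TwoF4.isC_21 K hα (fun _ _ => Cfsg.Agent.H326.F4C.conj21 H hα) h

/-- the row from the number of odd classes -/
theorem rowA_of (H : Cfsg.Agent.H326.F4C.H16) : RowA LL :=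
  Cfsg.Agent.H763.TwoF4.rowA_of fun _ _ _ K h1 h2 => allC_of H K h1 h2

/-- the row for the field with two elements -/
theorem rowA_F4 (H : Cfsg.Agent.H326.F4C.H16) (F : Type*) [Field F] [Fintype F] (h : Fintype.card F = 2) :
    RowA ↥(chevF4.group F) := by
  obtain ⟨e⟩ := Cfsg.Agent.FourTwo.Mult.exists_equiv F h
  exact (rowA_of H).congr e.symm

end Cfsg.Agent.H374.QS.FF
end

-- part: H374/QS/FF/Row
section
/-!
# The row 2.F₄(2) (helper374)

`rowA` : every element of every finite perfect central extension of `F₄(2)` is a commutator.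
-/

set_option autoImplicit false

namespace Cfsg.Agent.H374.QS.FF

open Cfsg.Lie Cfsg.Agent.H6.QO
open Cfsg.Agent.FourTwo.Base (LL)

theorem h16 : Cfsg.Agent.H326.F4C.H16 := fun f h1 h2 _ hg => Cfsg.Agent.H197.Reg.exists_conj16 f h1 h2 hg

/-- **the row of `F₄(2)`**, any field with two elements -/
theorem rowA {F : Type*} [Field F] [Fintype F] (h : Fintype.card F = 2) : RowA ↥(chevF4.group F) := rowA_F4 h16 F h

end Cfsg.Agent.H374.QS.FF
end

private theorem dce_7edf20f7b740 : _root_.True := by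
  try have : _root_.True := by simp only [_root_.Cfsg.Agent.H374.QS.FF.BB.eq_1]
  try have : _root_.True := by simp only [_root_.Cfsg.Agent.H763.TwoF4.WX.eq_1]
  exact _root_.True.intro
end
end
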